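import Groth.Agent.FF.Linear
import Groth.Agent.FF.LinSys
import Groth.Prelude.Def_W4bk4goldsch45

/-!
Nonsingularity of maps given by very ample complete linear systems.
-/

set_option autoImplicit false
set_option linter.unusedSectionVars false

open FunFld WithZero Groth.Agent.FF

namespace Groth.Agent.FFEmb

variable {k K : Type*} [Field k] [Field K] [Algebra k K] [IsAlgClosed k]
  (hK : IsFunctionField k K)

include hK

/-- `L(A) + L(B) = L(A ⊔ B)` in large degree. -/
theorem L_sup (A B : Divisor k K) (h : 2 * (genus k K : ℤ) - 1 ≤ (A ⊓ B).deg) :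
    L (A ⊔ B) = L A ⊔ L B := by
  haveI := finiteDimensional_L hK A
  haveI := finiteDimensional_L hK B
  haveI := finiteDimensional_L hK (A ⊔ B)
  have hinf : L A ⊓ L B = L (A ⊓ B) := by
    ext x
    simp only [Submodule.mem_inf]
    constructor
    · rintro ⟨ha, hb⟩ P
      rw [Finsupp.inf_apply]
      rcases le_total (A P) (B P) with hle | hle
      · rw [min_eq_left hle]; exact ha P
      · rw [min_eq_right hle]; exact hb P
    · exact fun hx => ⟨L_mono inf_le_left hx, L_mono inf_le_right hx⟩
  refine (Submodule.eq_of_le_of_finrank_eq (sup_le (L_mono le_sup_left) (L_mono le_sup_right)) ?_).symm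
  have h1 := Submodule.finrank_sup_add_finrank_inf_eq (L A) (L B)
  rw [hinf] at h1
  have hdeg : (A ⊔ B).deg + (A ⊓ B).deg = A.deg + B.deg := by
    rw [← deg_add, ← deg_add]
    congr 1
    ext P
    simp only [Finsupp.add_apply, Finsupp.sup_apply, Finsupp.inf_apply]
    exact max_add_min _ _
  have hsup : (A ⊓ B).deg ≤ (A ⊔ B).deg := deg_mono inf_le_sup
  have e1 := ell_eq_of_deg_ge hK h
  have e2 := ell_eq_of_deg_ge hK (h.trans (deg_mono (inf_le_left : A ⊓ B ≤ A)))
  have e3 := ell_eq_of_deg_ge hK (h.trans (deg_mono (inf_le_right : A ⊓ B ≤ B)))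
  have e4 := ell_eq_of_deg_ge hK (h.trans hsup)
  simp only [ell] at e1 e2 e3 e4
  omega

/-- The degree of a point is one. -/
theorem deg_sub_one (D : Divisor k K) (P : Place k K) :
    (D - Finsupp.single P 1).deg = D.deg - 1 := by
  rw [deg_sub, deg_single, deg_eq_one hK P]
  simp

theorem exists_exact_of_deg (D : Divisor k K) (P : Place k K) (h : 2 * (genus k K : ℤ) ≤ D.deg) :
    ∃ x : K, x ∈ L D ∧ P.1 x = exp (D P) := by
  refine (ell_lt_iff_exists hK D P).1 ?_
  have e1 := ell_eq_of_deg_ge hK (D := D) (by omega)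
  have e2 := ell_eq_of_deg_ge hK (D := D - Finsupp.single P 1) (by rw [deg_sub_one hK]; omega)
  rw [deg_sub_one hK] at e2
  omega

variable (E : Divisor k K) (P : Place k K)
  (h1 : (1 : K) ∈ L E) (hEP : E P = 0) (hd : 1 ≤ E.deg)
  (hsep : ∀ Q : Place k K,
    ell (E - Finsupp.single P 1 - Finsupp.single Q 1) < ell (E - Finsupp.single P 1))

include h1 hsep in
/-- For large `m`, `L((m+1)E − P) = L(E − P) · L(mE)`. -/
theorem L_succ_sub_le (m : ℕ) (hm : 2 * (genus k K : ℤ) - 1 ≤ ((m : ℤ) - 1) * E.deg) :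
    L ((m + 1) • E - Finsupp.single P 1) ≤ L (E - Finsupp.single P 1) * L (m • E) := by
  classical
  set T := L (E - Finsupp.single P 1) * L (m • E)
  set Tg := (m + 1) • E - Finsupp.single P 1 with hTg
  -- the divisor cut out by `v`
  let A : K → Divisor k K := fun v => m • E - div k v
  have hA : ∀ v : K, v ∈ L (E - Finsupp.single P 1) → v ≠ 0 → A v ≤ Tg ∧ L (A v) ≤ T := by
    intro v hv hv0
    refine ⟨fun Q => ?_, fun w hw => ?_⟩
    · have h2 := (mem_L_iff hK.1 hv0).1 hv Q
      simp only [A, hTg, Finsupp.add_apply, Finsupp.sub_apply, Finsupp.smul_apply, Finsupp.zero_apply,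
        succ_nsmul] at h2 ⊢
      omega
    · have : v * (v⁻¹ * w) ∈ T := by
        refine Submodule.mul_mem_mul hv ?_
        rw [mul_mem_L_iff hK (inv_ne_zero hv0), div_inv hK.1, ← sub_eq_add_neg]
        exact hw
      rwa [mul_inv_cancel_left₀ hv0] at this
  have hexact : ∀ Q : Place k K, ∃ v ∈ L (E - Finsupp.single P 1), v ≠ 0 ∧ A v Q = Tg Q := by
    intro Q
    obtain ⟨v, hv, hvQ⟩ := (ell_lt_iff_exists hK (E - Finsupp.single P 1) Q).1 (hsep Q)
    refine ⟨v, hv, ne_zero_of_val_eq_exp Q hvQ, ?_⟩
    simp only [A, hTg, Finsupp.sub_apply, Finsupp.smul_apply, div_apply hK.1,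
      ord_of_val_eq Q hvQ, succ_nsmul, Finsupp.add_apply]
    omega
  obtain ⟨v₁, hv₁, hv₁0, -⟩ := hexact P
  have hdegA : ∀ v : K, (A v).deg = m * E.deg := fun v => by
    simp only [A]
    rw [deg_sub, deg_div hK.1, sub_zero, ← natCast_zsmul, deg_zsmul]
  have hdegTg : Tg.deg = (m + 1) * E.deg - 1 := by
    rw [hTg, deg_sub_one hK, ← natCast_zsmul, deg_zsmul]
    push_cast
    ring
  have key : ∀ (n : ℕ) (Acc : Divisor k K), A v₁ ≤ Acc → Acc ≤ Tg → Tg.deg - Acc.deg ≤ n →
      L Acc ≤ T → L Tg ≤ T := by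
    intro n
    induction n with
    | zero =>
      intro Acc h1' h2' h3' h4'
      have : Acc = Tg := by
        by_contra hne
        obtain ⟨Q, hQ⟩ : ∃ Q, Acc Q < Tg Q := by
          by_contra! hc
          exact hne (le_antisymm h2' hc)
        have h5 : Acc + Finsupp.single Q 1 ≤ Tg := fun R => by
          rw [Finsupp.add_apply, Finsupp.single_apply]
          split_ifs with e
          · subst e; omega
          · simpa using h2' R
        have := deg_mono h5
        rw [deg_add, deg_single, deg_eq_one hK Q] at this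
        simp at this h3'
        omega
      exact this ▸ h4'
    | succ n ih =>
      intro Acc h1' h2' h3' h4'
      by_cases heq : Acc = Tg
      · exact heq ▸ h4'
      obtain ⟨Q, hQ⟩ : ∃ Q, Acc Q < Tg Q := by
        by_contra! hc
        exact heq (le_antisymm h2' hc)
      obtain ⟨v, hv, hv0, hvQ⟩ := hexact Q
      have hinf : 2 * (genus k K : ℤ) - 1 ≤ (Acc ⊓ A v).deg := by
        have hm1 : A v₁ ⊓ A v ≤ Acc ⊓ A v := inf_le_inf_right _ h1'
        have hsum : (A v₁ ⊔ A v).deg + (A v₁ ⊓ A v).deg = (A v₁).deg + (A v).deg := by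
          rw [← deg_add, ← deg_add]
          congr 1
          ext R
          simp only [Finsupp.add_apply, Finsupp.sup_apply, Finsupp.inf_apply]
          exact max_add_min _ _
        have hsle := deg_mono (sup_le (hA v₁ hv₁ hv₁0).1 (hA v hv hv0).1)
        have := deg_mono hm1
        rw [hdegA, hdegA] at hsum
        rw [hdegTg] at hsle
        nlinarith
      refine ih (Acc ⊔ A v) (h1'.trans le_sup_left) (sup_le h2' (hA v hv hv0).1) ?_ ?_
      · have h5 : Acc + Finsupp.single Q 1 ≤ Acc ⊔ A v := fun R => by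
          rw [Finsupp.add_apply, Finsupp.single_apply, Finsupp.sup_apply]
          split_ifs with e
          · subst e
            exact le_trans (by omega) (le_max_right (Acc Q) (A v Q))
          · simp
        have := deg_mono h5
        rw [deg_add, deg_single, deg_eq_one hK Q] at this
        push_cast at this h3'
        omega
      · rw [L_sup hK _ _ hinf]
        exact sup_le h4' (hA v hv hv0).2
  exact key ((Tg.deg - (A v₁).deg).toNat) (A v₁) le_rfl (hA v₁ hv₁ hv₁0).1 (Int.self_le_toNat _)
    (hA v₁ hv₁ hv₁0).2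

include h1 hEP hd hsep in
/-- Functions regular off the support of `E` are, after inverting a function nonzero at `P`,
polynomials in `L(E)`. -/
theorem exists_mul_mem (S : Subalgebra k K) (hS : L E ≤ Subalgebra.toSubmodule S) (z : K)
    (hz : P.1 z ≤ 1) : ∃ u ∈ S, ∃ w ∈ S, P.1 w = 1 ∧ z * w = u := by
  classical
  have hE0 : 0 ≤ E := by
    have h2 := (mem_L_iff hK.1 one_ne_zero).1 h1
    rwa [show div k (1 : K) = 0 by simpa using div_const hK.1 (1 : k), add_zero] at h2
  have hmono : ∀ {a b : ℕ}, a ≤ b → L (a • E) ≤ L (b • E) := fun {a b} hab =>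
    L_mono (nsmul_le_nsmul_left hE0 hab)
  obtain ⟨M, hM⟩ : ∃ M : ℕ, ∀ m : ℕ, M ≤ m → 2 * (genus k K : ℤ) - 1 ≤ ((m : ℤ) - 1) * E.deg := by
    refine ⟨2 * genus k K + 1, fun m hm => ?_⟩
    have h2 : (2 * (genus k K : ℤ)) ≤ (m : ℤ) - 1 := by omega
    nlinarith
  have hvalE : ∀ (m : ℕ) (x : K), x ∈ L (m • E) → P.1 x ≤ 1 := fun m x hx => by
    simpa [hEP] using hx P
  have hint : ∀ x ∈ L E, P.1 x ≤ 1 := fun x hx => by simpa [hEP] using hx P
  -- it is enough to work with the subalgebra generated by `L E`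
  let R := Algebra.adjoin k (L E : Set K)
  have hRS : R ≤ S := Algebra.adjoin_le hS
  have hRint : ∀ a ∈ R, P.1 a ≤ 1 := fun a ha => by
    induction ha using Algebra.adjoin_induction with
    | mem x hx => exact hint x hx
    | algebraMap r => exact val_const_le P r
    | add x y _ _ hx hy => exact (P.1.map_add _ _).trans (max_le hx hy)
    | mul x y _ _ hx hy => rw [map_mul]; exact mul_le_one' hx hy
  let mP : Ideal R :=
    { carrier := {a | P.1 (a : K) < 1}
      add_mem' := fun {a b} ha hb => lt_of_le_of_lt (P.1.map_add _ _) (max_lt ha hb)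
      zero_mem' := by simp
      smul_mem' := fun c a ha => by
        show P.1 ((c : K) * a) < 1
        rw [map_mul]
        exact lt_of_le_of_lt (mul_le_of_le_one_left zero_le (hRint _ c.2)) ha }
  let N : Submodule R K := Submodule.span R (L (M • E) : Set K)
  let O : Submodule R K := Submodule.span R {(1 : K)}
  have hvm : ∀ v ∈ L (E - Finsupp.single P 1), ∃ a : R, a ∈ mP ∧ (a : K) = v := fun v hv => by
    obtain ⟨hvE, hvP⟩ := (mem_L_sub_single zero_le_one).1 hv
    refine ⟨⟨v, Algebra.subset_adjoin hvE⟩, ?_, rfl⟩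
    show P.1 v < 1
    rw [hEP, zero_sub] at hvP
    exact lt_of_le_of_lt hvP (by rw [← exp_zero, exp_lt_exp]; omega)
  have hstep : ∀ m, M ≤ m → ∀ s ∈ L ((m + 1) • E),
      ∃ c : k, s - algebraMap k K c ∈ L (E - Finsupp.single P 1) * L (m • E) := by
    intro m hm s hs
    obtain ⟨c, hc⟩ := exists_residue hK P (hvalE _ s hs)
    refine ⟨c, L_succ_sub_le hK E P h1 hsep m (hM m hm) ((mem_L_sub_single zero_le_one).2 ⟨?_, ?_⟩)⟩
    · exact sub_mem hs (L_mono (nsmul_nonneg hE0 _) (L_zero_le_of_const c))
    · have h3 : ((m + 1) • E) P = 0 := by simp [hEP]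
      rw [h3]
      exact (lt_exp_iff _ _).1 (by rwa [exp_zero])
  have hall : ∀ j, L ((M + j) • E) ≤ (N ⊔ O).restrictScalars k := by
    intro j
    induction j with
    | zero => exact fun x hx => Submodule.mem_sup_left (Submodule.subset_span hx)
    | succ j ih =>
      intro s hs
      obtain ⟨c, hc⟩ := hstep (M + j) (Nat.le_add_right _ _) s hs
      have h3 : s - algebraMap k K c ∈ (N ⊔ O).restrictScalars k := by
        refine Submodule.mul_induction_on hc (fun v hv w hw => ?_) (fun x y hx hy => add_mem hx hy)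
        obtain ⟨a, -, rfl⟩ := hvm v hv
        exact Submodule.smul_mem _ a (show _ ∈ N ⊔ O from ih hw)
      have h4 : algebraMap k K c ∈ (N ⊔ O).restrictScalars k := by
        refine Submodule.mem_sup_right (Submodule.mem_span_singleton.2 ⟨algebraMap k R c, ?_⟩)
        show ((algebraMap k R c : R) : K) * 1 = _
        rw [mul_one]; rfl
      simpa using add_mem h3 h4
  -- Nakayama on `N` modulo `R`
  have hN : N.map O.mkQ ≤ mP • N.map O.mkQ := by
    rw [Submodule.map_span, Submodule.span_le]
    rintro _ ⟨s, hs, rfl⟩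
    obtain ⟨c, hc⟩ := hstep M le_rfl s (hmono (Nat.le_succ M) hs)
    have h3 : O.mkQ s = O.mkQ (s - algebraMap k K c) := by
      rw [eq_comm, Submodule.mkQ_apply, Submodule.mkQ_apply, Submodule.Quotient.eq, sub_sub_cancel_left]
      refine neg_mem (Submodule.mem_span_singleton.2 ⟨algebraMap k R c, ?_⟩)
      show ((algebraMap k R c : R) : K) * 1 = _
      rw [mul_one]; rfl
    rw [h3, SetLike.mem_coe, ← Submodule.map_span]
    refine Submodule.mul_induction_on hc (fun v hv w hw => ?_) (fun x y hx hy => by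
      rw [map_add]; exact add_mem hx hy)
    obtain ⟨a, ha, rfl⟩ := hvm v hv
    rw [show (a : K) * w = a • w from rfl, map_smul]
    exact Submodule.smul_mem_smul ha (Submodule.mem_map_of_mem (Submodule.subset_span hw))
  have hfg : (N.map O.mkQ).FG := by
    haveI := finiteDimensional_L hK (M • E)
    obtain ⟨B, hB⟩ := (IsNoetherian.noetherian (⊤ : Submodule k (L (M • E))))
    refine Submodule.FG.map _ ⟨B.image Subtype.val, le_antisymm ?_ ?_⟩
    · rw [Submodule.span_le]
      intro x hx
      simp only [Finset.coe_image] at hx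
      obtain ⟨y, -, rfl⟩ := hx
      exact Submodule.subset_span y.2
    · rw [Submodule.span_le]
      intro x hx
      have hx2 : (⟨x, hx⟩ : L (M • E)) ∈ Submodule.span k (B : Set (L (M • E))) := by
        rw [hB]; trivial
      have hx3 := Submodule.mem_map_of_mem (f := (L (M • E)).subtype) hx2
      rw [Submodule.map_span] at hx3
      rw [Finset.coe_image]
      exact Submodule.span_le_restrictScalars k R _ hx3
  obtain ⟨r, hr, hr0⟩ := Submodule.exists_sub_one_mem_and_smul_eq_zero_of_fg_of_le_smul mP _ hfg hN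
  have hrP : P.1 (r : K) = 1 := by
    have hr' : P.1 ((r : K) - 1) < 1 := hr
    have := P.1.map_add_of_distinct_val (x := (1 : K)) (y := (r : K) - 1) (by rw [map_one]; exact hr'.ne')
    rwa [add_sub_cancel, map_one, max_eq_left hr'.le] at this
  -- denominators
  let F : Divisor k K := (-(div k z)) ⊔ 0
  obtain ⟨j, hj⟩ : ∃ j : ℕ, 2 * (genus k K : ℤ) ≤ ((M + j) • E - F).deg := by
    refine ⟨(2 * (genus k K : ℤ) + F.deg).toNat, ?_⟩
    rw [deg_sub, ← natCast_zsmul, deg_zsmul]
    have := Int.self_le_toNat (2 * (genus k K : ℤ) + F.deg)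
    push_cast
    nlinarith
  obtain ⟨s, hs, hsP⟩ := exists_exact_of_deg hK _ P hj
  have hFP : F P = 0 := by
    simp only [F, Finsupp.sup_apply, Finsupp.neg_apply, div_apply hK.1, Finsupp.zero_apply]
    have := (val_le_one_iff P z).1 hz
    exact max_eq_right (by omega)
  rw [Finsupp.sub_apply, Finsupp.smul_apply, hEP, smul_zero, hFP, sub_zero, exp_zero] at hsP
  have hF0 : (0 : Divisor k K) ≤ F := le_sup_right
  have hs' : s ∈ L ((M + j) • E) := L_mono (sub_le_self _ hF0) hs
  have hzs : z * s ∈ L ((M + j) • E) := by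
    rcases eq_or_ne z 0 with hz0 | hz0
    · rw [hz0, zero_mul]; exact zero_mem _
    rw [mul_mem_L_iff hK hz0]
    refine L_mono (fun Q => ?_) hs
    simp only [F, Finsupp.sub_apply, Finsupp.add_apply, Finsupp.sup_apply, Finsupp.neg_apply,
      Finsupp.zero_apply]
    have := le_max_left (-(div k z Q)) (0 : ℤ)
    omega
  have hclear : ∀ x ∈ L ((M + j) • E), (r : K) * x ∈ R := by
    intro x hx
    obtain ⟨y, hy, o, ho, rfl⟩ := Submodule.mem_sup.1 (hall j hx)
    obtain ⟨a, rfl⟩ := Submodule.mem_span_singleton.1 ho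
    rw [mul_add]
    refine add_mem ?_ (mul_mem r.2 ?_)
    · have h3 := hr0 _ (Submodule.mem_map_of_mem (f := O.mkQ) hy)
      rw [← map_smul, Submodule.mkQ_apply, Submodule.Quotient.mk_eq_zero] at h3
      obtain ⟨b, hb⟩ := Submodule.mem_span_singleton.1 h3
      have : (r : K) * y = (b : K) * 1 := hb.symm
      rw [this, mul_one]
      exact b.2
    · show (a : K) * 1 ∈ R
      rw [mul_one]; exact a.2
  refine ⟨(r : K) * (z * s), hRS (hclear _ hzs), (r : K) * s, hRS (hclear _ hs'), ?_, by ring⟩
  rw [map_mul, hrP, hsP, one_mul]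

/-- A map by a complete linear system separating points and tangents is nonsingular. -/
theorem isNonsingularAt (D : Divisor k K) (hD : 1 ≤ D.deg) {n : ℕ} (φ : Fin (n + 1) → K)
    (hspan : Submodule.span k (Set.range φ) = L D)
    (hbp : ∀ Q : Place k K, ell (D - Finsupp.single Q 1) < ell D)
    (hsep : ∀ P Q : Place k K,
      ell (D - Finsupp.single P 1 - Finsupp.single Q 1) < ell (D - Finsupp.single P 1))
    (P : Place k K) : IsNonsingularAt φ P := by
  obtain ⟨x, hx, hxP⟩ := (ell_lt_iff_exists hK D P).1 (hbp P)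
  have hmem : ∀ i, φ i ∈ L D := fun i => hspan ▸ Submodule.subset_span ⟨i, rfl⟩
  obtain ⟨j, hj⟩ : ∃ j, exp (D P) ≤ P.1 (φ j) := by
    by_contra! hc
    have hlt : ∀ y ∈ Submodule.span k (Set.range φ), P.1 y < exp (D P) := by
      intro y hy
      induction hy using Submodule.span_induction with
      | mem y hy => obtain ⟨i, rfl⟩ := hy; exact hc i
      | zero => simp
      | add a b _ _ ha hb => exact lt_of_le_of_lt (P.1.map_add a b) (max_lt ha hb)
      | smul c a _ ha => exact lt_of_le_of_lt (val_smul_le P c a) ha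
    have := hlt x (hspan ▸ hx)
    exact absurd hxP this.ne
  have hjP : P.1 (φ j) = exp (D P) := le_antisymm (hmem j P) hj
  have hj0 : φ j ≠ 0 := ne_zero_of_val_eq_exp P hjP
  let E := D + div k (φ j)
  have hdeg : E.deg = D.deg := by rw [deg_add, deg_div hK.1, add_zero]
  have hEP : E P = 0 := by
    simp only [E, Finsupp.add_apply, div_apply hK.1, ord_of_val_eq P hjP]
    ring
  have h1 : (1 : K) ∈ L E := by
    rw [← mul_mem_L_iff hK hj0, mul_one]
    exact hmem j
  have hsepE : ∀ Q : Place k K,
      ell (E - Finsupp.single P 1 - Finsupp.single Q 1) < ell (E - Finsupp.single P 1) := fun Q => by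
    have e1 : E - Finsupp.single P 1 - Finsupp.single Q 1 =
        (D - Finsupp.single P 1 - Finsupp.single Q 1) + div k (φ j) := by simp only [E]; abel
    have e2 : E - Finsupp.single P 1 = (D - Finsupp.single P 1) + div k (φ j) := by simp only [E]; abel
    rw [e1, e2, ell_add_div hK hj0, ell_add_div hK hj0]
    exact hsep P Q
  intro z hz
  refine ⟨j, hj0, fun i => hjP ▸ hmem i P, ?_⟩
  refine exists_mul_mem hK E P h1 hEP (hdeg ▸ hD) hsepE _ ?_ z hz
  intro y hy
  have hy' : φ j * y ∈ Submodule.span k (Set.range φ) := by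
    rw [hspan, mul_mem_L_iff hK hj0]
    exact hy
  have h2 := Submodule.mem_map_of_mem (f := LinearMap.mulLeft k (φ j)⁻¹) hy'
  rw [LinearMap.mulLeft_apply, inv_mul_cancel_left₀ hj0, Submodule.map_span] at h2
  refine Submodule.span_le.2 ?_ h2
  rintro _ ⟨_, ⟨i, rfl⟩, rfl⟩
  rw [LinearMap.mulLeft_apply, mul_comm, ← div_eq_mul_inv]
  exact Algebra.subset_adjoin ⟨i, rfl⟩

/-- Degree at least `2g + 1`. -/
theorem isNonsingularAt_of_deg_ge (D : Divisor k K) (hD : 2 * (genus k K : ℤ) + 1 ≤ D.deg) {n : ℕ}
    (φ : Fin (n + 1) → K) (hspan : Submodule.span k (Set.range φ) = L D) (P : Place k K) :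
    IsNonsingularAt φ P := by
  have step : ∀ (F : Divisor k K) (Q : Place k K), 2 * (genus k K : ℤ) ≤ F.deg →
      ell (F - Finsupp.single Q 1) < ell F := fun F Q hF =>
    (ell_lt_iff_exists hK F Q).2 (exists_exact_of_deg hK F Q hF)
  exact isNonsingularAt hK D (by omega) φ hspan (fun Q => step D Q (by omega))
    (fun P Q => step _ Q (by rw [deg_sub_one hK]; omega)) P

omit [IsAlgClosed k] in
theorem mem_range_of_deg {x : K} (hx : Transcendental k x) {F : Divisor k K}
    (hF0 : 0 ≤ F) (hxF : x ∈ L F) :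
    (Module.finrank (IntermediateField.adjoin k ({x} : Set K)) K : ℤ) ≤ F.deg := by
  have hxinv : Transcendental k x⁻¹ := fun h => hx (by simpa using h.inv)
  have hx0 : x ≠ 0 := fun e => hx (e ▸ isAlgebraic_zero)
  have h1 := deg_zeroDiv hK.1 hxinv
  have h2 : zeroDiv (k := k) x⁻¹ ≤ F := by
    refine sup_le (fun Q => ?_) hF0
    have h3 := (mem_L_iff hK.1 hx0).1 hxF Q
    rw [div_inv hK.1, Finsupp.neg_apply]
    simp only [Finsupp.add_apply, Finsupp.zero_apply] at h3
    omega
  have h4 := deg_mono h2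
  rw [h1] at h4
  have e : (IntermediateField.adjoin k ({x⁻¹} : Set K)) = IntermediateField.adjoin k ({x} : Set K) := by
    apply le_antisymm <;> rw [IntermediateField.adjoin_le_iff, Set.singleton_subset_iff]
    · exact inv_mem (IntermediateField.mem_adjoin_simple_self k x)
    · have := inv_mem (IntermediateField.mem_adjoin_simple_self k x⁻¹)
      rwa [inv_inv] at this
  rw [e] at h4
  exact h4

/-- The canonical system of a non-hyperelliptic field. -/
theorem isNonsingularAt_of_canonical
    (h2 : ∀ x : K, Transcendental k x →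
      2 < Module.finrank (IntermediateField.adjoin k ({x} : Set K)) K)
    (D : Divisor k K) (hD : IsCanonical k K D) {n : ℕ} (φ : Fin (n + 1) → K)
    (hspan : Submodule.span k (Set.range φ) = L D) (P : Place k K) : IsNonsingularAt φ P := by
  have hone : ∀ F : Divisor k K, 0 ≤ F → F.deg ≤ 2 → ell F = 1 := by
    intro F hF0 hF
    have hle : L F ≤ (1 : Submodule k K) := by
      intro x hx
      by_cases hx' : IsAlgebraic k x
      · obtain ⟨c, rfl⟩ := hK.2 x hx'
        exact Submodule.algebraMap_mem c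
      · have h3 : Transcendental k x := hx'
        have := mem_range_of_deg hK h3 hF0 hx
        have := h2 x h3
        omega
    have hge : (1 : Submodule k K) ≤ L F := by
      rw [← L_zero hK]; exact L_mono hF0
    rw [ell, le_antisymm hle hge, finrank_one hK.1]
  have hsingle : ∀ Q : Place k K, (0 : Divisor k K) ≤ Finsupp.single Q 1 := fun Q =>
    Finsupp.single_nonneg.2 zero_le_one
  have hd1 : ∀ Q : Place k K, Divisor.deg (Finsupp.single Q 1 : Divisor k K) = 1 := fun Q => by
    rw [deg_single, deg_eq_one hK Q]; simp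
  -- `ℓ(D - F) = g - deg F` for effective `F` of degree at most two
  have hRR : ∀ F : Divisor k K, 0 ≤ F → F.deg ≤ 2 →
      (ell (D - F) : ℤ) = genus k K - F.deg := by
    intro F hF0 hF
    have h3 := riemann_roch hK hD (D - F)
    rw [deg_sub, deg_canonical hK hD, sub_sub_cancel, hone F hF0 hF] at h3
    push_cast at h3
    omega
  have hg : 2 ≤ genus k K := by
    have := hRR (Finsupp.single P 1 + Finsupp.single P 1) (add_nonneg (hsingle P) (hsingle P))
      (by rw [deg_add, hd1]; norm_num)
    rw [deg_add, hd1] at this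
    omega
  refine isNonsingularAt hK D (by rw [deg_canonical hK hD]; omega) φ hspan (fun Q => ?_)
    (fun P Q => ?_) P
  · have e1 := hRR (Finsupp.single Q 1) (hsingle Q) (by rw [hd1]; norm_num)
    rw [hd1] at e1
    have e2 := ell_canonical hK hD
    omega
  · rw [sub_sub]
    have e1 := hRR (Finsupp.single P 1 + Finsupp.single Q 1) (add_nonneg (hsingle P) (hsingle Q))
      (by rw [deg_add, hd1, hd1]; norm_num)
    have e2 := hRR (Finsupp.single P 1) (hsingle P) (by rw [hd1]; norm_num)
    rw [deg_add, hd1, hd1] at e1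
    rw [hd1] at e2
    omega

end Groth.Agent.FFEmb
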