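import Groth.Agent.FFEmb.Map

/-!
Criteria for nonsingularity of projective maps.
-/

set_option autoImplicit false
set_option linter.unusedSectionVars false
set_option linter.style.haveILetI false

open FunFld WithZero Groth.Agent.FF Groth.Agent.FFEmb.Map

namespace Groth.Agent.FFEmb.MapS

variable {k K : Type*} [Field k] [Field K] [Algebra k K] [IsAlgClosed k]
  (hK : IsFunctionField k K)
include hK

theorem adjoin_eq_top {n : ℕ} (φ : Fin (n + 1) → K) (h0 : φ 0 ≠ 0) (P : Place k K)
    (h : IsNonsingularAt φ P) :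
    IntermediateField.adjoin k (Set.range fun i => φ i / φ 0) = ⊤ := by
  set F := IntermediateField.adjoin k (Set.range fun i => φ i / φ 0)
  have key : ∀ z : K, P.1 z ≤ 1 → z ∈ F := by
    intro z hz
    obtain ⟨j, hj0, -, u, hu, w, hw, hwP, hzw⟩ := h z hz
    have hmem : ∀ i, φ i / φ j ∈ F := fun i => by
      rw [show φ i / φ j = φ i / φ 0 / (φ j / φ 0) by field_simp]
      exact div_mem (IntermediateField.subset_adjoin k _ ⟨i, rfl⟩)
        (IntermediateField.subset_adjoin k _ ⟨j, rfl⟩)
    have hle : Algebra.adjoin k (Set.range fun i => φ i / φ j) ≤ F.toSubalgebra :=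
      Algebra.adjoin_le (by rintro _ ⟨i, rfl⟩; exact hmem i)
    have hw0 : w ≠ 0 := fun e => by simp [e] at hwP
    rw [show z = u / w by rw [← hzw]; field_simp]
    exact div_mem (show u ∈ F from hle hu) (show w ∈ F from hle hw)
  refine eq_top_iff.2 fun z _ => ?_
  rcases le_or_gt (P.1 z) 1 with hz | hz
  · exact key z hz
  · have := inv_mem (key z⁻¹ (by rw [map_inv₀]; exact inv_le_one_of_one_le₀ hz.le))
    rwa [inv_inv] at this

/-- With `1` in the span and entries integral at `P`, uniformizers of the local ring come from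
the span. -/
theorem uniformizer_iff {n : ℕ} (φ : Fin (n + 1) → K) (P : Place k K)
    (heff : (1 : K) ∈ Submodule.span k (Set.range φ)) (hnorm : ∀ i, P.1 (φ i) ≤ 1) :
    (∃ t : K, InLocRing φ P t ∧ P.1 t = exp (-1 : ℤ)) ↔
      ∃ t ∈ Submodule.span k (Set.range φ), P.1 t = exp (-1 : ℤ) := by
  obtain ⟨j, -, hjmax⟩ := Finset.univ.exists_max_image (fun i => P.1 (φ i)) Finset.univ_nonempty
  have hj : ∀ i, P.1 (φ i) ≤ P.1 (φ j) := fun i => hjmax i (Finset.mem_univ i)
  have hjP : P.1 (φ j) = 1 := by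
    refine le_antisymm (hnorm j) ?_
    have hle : ∀ y ∈ Submodule.span k (Set.range φ), P.1 y ≤ P.1 (φ j) := by
      intro y hy
      induction hy using Submodule.span_induction with
      | mem y hy => obtain ⟨i, rfl⟩ := hy; exact hj i
      | zero => simp
      | add a b _ _ ha hb => exact (P.1.map_add a b).trans (max_le ha hb)
      | smul c a _ ha => exact (val_smul_le P c a).trans ha
    simpa using hle 1 heff
  have hj0 : φ j ≠ 0 := fun e => by simp [e] at hjP
  constructor
  · rintro ⟨t, htloc, htP⟩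
    by_contra! hno
    have hint : ∀ y ∈ Submodule.span k (Set.range φ), P.1 y ≤ 1 := by
      intro y hy
      induction hy using Submodule.span_induction with
      | mem y hy => obtain ⟨i, rfl⟩ := hy; exact hnorm i
      | zero => simp
      | add a b _ _ ha hb => exact (P.1.map_add a b).trans (max_le ha hb)
      | smul c a _ ha => exact (val_smul_le P c a).trans ha
    have hcong : ∀ y ∈ Submodule.span k (Set.range φ), y ∈ cong P P 1 := by
      intro y hy
      obtain ⟨c, hc⟩ := exists_residue hK P (hint y hy)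
      have hmem : y - algebraMap k K c ∈ Submodule.span k (Set.range φ) := by
        rw [Algebra.algebraMap_eq_smul_one]
        exact sub_mem hy (Submodule.smul_mem _ c heff)
      have h1 : P.1 (y - algebraMap k K c) ≤ exp (-1 : ℤ) := by
        simpa using (lt_exp_iff _ 0).1 (by rwa [exp_zero])
      have h2 : P.1 (y - algebraMap k K c) ≤ exp (-2 : ℤ) := by
        simpa using (lt_exp_iff _ (-1)).1 (lt_of_le_of_ne h1 (hno _ hmem))
      exact ⟨c, by simpa using h2, h1⟩
    refine not_cong_uniformizer htP (inLoc_mem_cong hj0 hj (fun i => ?_) htloc)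
    rw [div_eq_mul_inv]
    exact mul_mem (hcong _ (Submodule.subset_span ⟨i, rfl⟩))
      (cong_inv (hcong _ (Submodule.subset_span ⟨j, rfl⟩)) hjP)
  · rintro ⟨t, ht, htP⟩
    have hdiv : ∀ y ∈ Submodule.span k (Set.range φ),
        y / φ j ∈ Algebra.adjoin k (Set.range fun i => φ i / φ j) := fun y hy => by
      simpa using div_pow_mem_adjoin (φ := φ) (c := φ j) (n := 1) (by rwa [pow_one])
    refine ⟨t, ⟨j, hj0, hj, t / φ j, hdiv t ht, 1 / φ j, hdiv 1 heff, ?_, by ring⟩, htP⟩
    rw [map_div₀, hjP, map_one, div_one]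

theorem finrank_exact_iff {V : Submodule k K} [FiniteDimensional k V] (F : Divisor k K)
    (Q : Place k K) :
    (∃ v ∈ V ⊓ L F, Q.1 v = exp (F Q)) ↔
      Module.finrank k ↥(V ⊓ L (F - Finsupp.single Q 1)) + 1 = Module.finrank k ↥(V ⊓ L F) := by
  haveI : FiniteDimensional k ↥(V ⊓ L F) := Submodule.finiteDimensional_inf_left _ _
  have hle : V ⊓ L (F - Finsupp.single Q 1) ≤ V ⊓ L F :=
    inf_le_inf_left _ (L_mono (sub_le_self _ (Finsupp.single_nonneg.2 zero_le_one)))
  have hstep := finrank_inf_L_step hK (V := V) (deg_eq_one hK Q) F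
  constructor
  · rintro ⟨v, hv, hvQ⟩
    have hlt : V ⊓ L (F - Finsupp.single Q 1) < V ⊓ L F := by
      refine lt_of_le_of_ne hle fun e => ?_
      have h1 : v ∈ V ⊓ L (F - Finsupp.single Q 1) := e ▸ hv
      have h2 := h1.2 Q
      rw [hvQ, exp_le_exp, Finsupp.sub_apply, Finsupp.single_eq_same] at h2
      omega
    have := Submodule.finrank_lt_finrank_of_lt hlt
    omega
  · intro h
    by_contra! hno
    have : V ⊓ L F ≤ V ⊓ L (F - Finsupp.single Q 1) := fun v hv =>
      ⟨hv.1, (mem_L_sub_single zero_le_one).2 ⟨hv.2,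
        (lt_exp_iff _ _).1 (lt_of_le_of_ne (hv.2 Q) (hno v hv))⟩⟩
    rw [le_antisymm hle this] at h
    omega

theorem iff_codim_two {n : ℕ} (φ : Fin (n + 1) → K) (hφ : LinearIndependent k φ) (P : Place k K) :
    IsNonsingularAt φ P ↔ ∀ Q : Place k K,
      Module.finrank k ↥(Submodule.span k (Set.range φ) ⊓
          L (mapDiv k φ - Finsupp.single P 1 - Finsupp.single Q 1)) + 2 =
        Module.finrank k ↥(Submodule.span k (Set.range φ)) := by
  have hF := fits_mapDiv hK φ (Or.inl fun i => hφ.ne_zero i)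
  haveI : FiniteDimensional k ↥(Submodule.span k (Set.range φ)) :=
    FiniteDimensional.span_of_finite k (Set.finite_range φ)
  have e0 : Submodule.span k (Set.range φ) ⊓ L (mapDiv k φ) = Submodule.span k (Set.range φ) :=
    inf_eq_left.2 hF.span_le
  have h0 := (finrank_exact_iff hK (V := Submodule.span k (Set.range φ)) (mapDiv k φ) P).1 (by
    obtain ⟨v, hv, hvP⟩ := hF.span_exact P
    exact ⟨v, ⟨hv, hF.span_le hv⟩, hvP⟩)
  rw [e0] at h0
  rw [isNonsingularAt_iff_sep hK hF]
  refine forall_congr' fun Q => ?_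
  rw [finrank_exact_iff hK]
  omega

theorem finite_singular' {n : ℕ} (hn : 1 ≤ n) (φ : Fin (n + 1) → K) (hφ : LinearIndependent k φ)
    (hbir : IntermediateField.adjoin k (Set.range fun i => φ i / φ 0) = ⊤) :
    {P : Place k K | ¬ IsNonsingularAt φ P}.Finite := by
  have hF := fits_mapDiv hK φ (Or.inl fun i => hφ.ne_zero i)
  refine finite_singular hK hF ?_ (hφ.ne_zero 0) hbir
  -- a constant map is not injective on a basis
  by_contra! hd
  have h0 := hF.deg_nonneg hK
  haveI := finiteDimensional_L hK (mapDiv k φ)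
  have hle := finrank_span_eq_card hφ
  have h1 := Submodule.finrank_mono hF.span_le
  rw [hle, Fintype.card_fin] at h1
  change n + 1 ≤ ell (mapDiv k φ) at h1
  obtain ⟨x, hx, -⟩ := hK.1
  obtain ⟨P⟩ := nonempty_place hK.1
  obtain ⟨j, hj0, -, -⟩ := hF.exists_least P
  have h2 := ell_add_div (D := mapDiv k φ) hK hj0
  have hE : 0 ≤ mapDiv k φ + div k (φ j) := (mem_L_iff hK.1 hj0).1 (hF.mem j)
  have h3 := ell_le_of_nonneg hK hE
  rw [h2, deg_add, deg_div hK.1] at h3
  omega

theorem iff_unique_and_uniformizer {n : ℕ} (φ : Fin (n + 1) → K) (hφ : LinearIndependent k φ)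
    (P : Place k K) :
    IsNonsingularAt φ P ↔
      (∀ Q : Place k K, (∀ z : K, InLocRing φ P z → Q.1 z ≤ 1) → Q = P) ∧
        ∃ t : K, InLocRing φ P t ∧ P.1 t = exp (-1 : ℤ) := by
  have hF := fits_mapDiv hK φ (Or.inl fun i => hφ.ne_zero i)
  constructor
  · refine fun h => ⟨fun Q hQ => ?_, exists_uniformizer_inLoc h⟩
    by_contra e
    obtain ⟨z, hzP, hzQ⟩ := exists_sep_pair (Ne.symm e)
    exact (hQ z (h z hzP.le)).not_gt hzQ
  · rintro ⟨h1, h2⟩
    refine isNonsingularAt_of_sep hK hF (sep_of_unique hK hF (fun Q hs => h1 Q fun z hz => ?_) h2)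
    obtain ⟨c, -, hc⟩ := sameImage_inLoc hs hz
    rw [show z = algebraMap k K c + (z - algebraMap k K c) by ring]
    exact (Q.1.map_add _ _).trans (max_le (val_const_le Q c)
      (hc.trans (by rw [← exp_zero, exp_le_exp]; omega)))

theorem sameImage_iff {n : ℕ} (φ : Fin (n + 1) → K) (hφ : LinearIndependent k φ)
    (P Q : Place k K) :
    SameImage φ P Q ↔ ∀ z : K, InLocRing φ P z → (Q.1 z ≤ 1 ∧ (Q.1 z < 1 ↔ P.1 z < 1)) := by
  constructor
  · intro hs z hz
    obtain ⟨c, hcP, hcQ⟩ := sameImage_inLoc hs hz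
    rcases eq_or_ne c 0 with rfl | hc0
    · rw [map_zero, sub_zero] at hcP hcQ
      have hl : exp (-1 : ℤ) < 1 := by rw [← exp_zero, exp_lt_exp]; omega
      exact ⟨hcQ.trans hl.le, fun _ => lt_of_le_of_lt (by simpa using hcP) hl,
        fun _ => lt_of_le_of_lt hcQ hl⟩
    · have hl : exp (-1 : ℤ) < 1 := by rw [← exp_zero, exp_lt_exp]; omega
      have aux : ∀ R : Place k K, R.1 (z - algebraMap k K c) ≤ exp (-1 : ℤ) → R.1 z = 1 := fun R h => by
        rw [show z = algebraMap k K c + (z - algebraMap k K c) by ring,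
          Valuation.map_add_eq_of_lt_left _ (by rw [val_const R hc0]; exact h.trans_lt hl), val_const R hc0]
      rw [aux Q hcQ, aux P (by simpa using hcP)]
      simp
  · intro h
    obtain ⟨j, -, hjmax⟩ := Finset.univ.exists_max_image (fun i => P.1 (φ i)) Finset.univ_nonempty
    have hj : ∀ i, P.1 (φ i) ≤ P.1 (φ j) := fun i => hjmax i (Finset.mem_univ i)
    have hj0 := hφ.ne_zero j
    have hloc : ∀ u ∈ Algebra.adjoin k (Set.range fun i => φ i / φ j), InLocRing φ P u :=
      fun u hu => ⟨j, hj0, hj, u, hu, 1, one_mem _, map_one _, mul_one u⟩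
    refine ⟨j, hj0, hj, fun i => ?_, fun i => ?_⟩
    · have h1 := (h _ (hloc _ (Algebra.subset_adjoin ⟨i, rfl⟩))).1
      rwa [map_div₀, div_le_one₀ (zero_lt_iff.2 ((Q.1.ne_zero_iff).2 hj0))] at h1
    · obtain ⟨c, hc⟩ := exists_residue hK P (t := φ i / φ j) (by
        rw [map_div₀]; exact div_le_one_of_le₀ (hj i) zero_le)
      exact ⟨c, hc, (h _ (hloc _ (sub_mem (Algebra.subset_adjoin ⟨i, rfl⟩)
        (Subalgebra.algebraMap_mem _ c)))).2.2 hc⟩

theorem iff_hyperplane_mult_one {n : ℕ} (φ : Fin (n + 1) → K) (hφ : LinearIndependent k φ)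
    (P : Place k K) :
    IsNonsingularAt φ P ↔ ∃ c : Fin (n + 1) → k, ∑ i, c i • φ i ≠ 0 ∧
      ∑ᶠ Q ∈ {Q : Place k K | SameImage φ P Q},
        ((mapDiv k φ) Q + Q.ord (∑ i, c i • φ i)) = 1 := by
  classical
  set D := mapDiv k φ
  have hF : Fits φ D := fits_mapDiv hK φ (Or.inl fun i => hφ.ne_zero i)
  have hPP : SameImage φ P P := by
    obtain ⟨j, hj0, hj, -⟩ := hF.exists_least P
    refine ⟨j, hj0, hj, hj, fun i => ?_⟩
    obtain ⟨c, hc⟩ := exists_residue hK P (t := φ i / φ j) (by
      rw [map_div₀]; exact div_le_one_of_le₀ (hj i) zero_le)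
    exact ⟨c, hc, hc⟩
  constructor
  · intro h
    have hsep := sep_of_isNonsingularAt hK hF h
    obtain ⟨v, hv, hvP⟩ := hsep P
    obtain ⟨c, rfl⟩ := Submodule.mem_span_range_iff_exists_fun k |>.1 hv.1
    refine ⟨c, ne_zero_of_val_eq_exp P hvP, ?_⟩
    have hS : {Q : Place k K | SameImage φ P Q} = {P} :=
      Set.eq_singleton_iff_unique_mem.2 ⟨hPP, fun Q hQ => eq_of_sameImage h hQ⟩
    rw [hS, finsum_mem_singleton, ord_of_val_eq P hvP, Finsupp.sub_apply, Finsupp.single_eq_same]
    ring
  · rintro ⟨c, hs0, hsum⟩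
    set s := ∑ i, c i • φ i with hs
    set f : Place k K → ℤ := fun Q => D Q + Q.ord s with hf
    have hsW : s ∈ Submodule.span k (Set.range φ) :=
      sum_mem fun i _ => Submodule.smul_mem _ _ (Submodule.subset_span ⟨i, rfl⟩)
    have hnn : ∀ Q, 0 ≤ f Q := fun Q => by
      have h1 := (mem_L_iff hK.1 hs0).1 (hF.span_le hsW) Q
      simpa [hf, div_apply hK.1] using h1
    -- passing through the image point does not depend on the place
    have hpass : ∀ P Q : Place k K, SameImage φ P Q → f P = 0 → f Q = 0 := by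
      rintro P Q ⟨j, hj0, hjP, hjQ, hcong⟩ hfP
      choose a haP haQ using hcong
      set γ := ∑ i, c i * a i with hγ
      have e : s / φ j - algebraMap k K γ = ∑ i, c i • (φ i / φ j - algebraMap k K (a i)) := by
        simp only [hs, hγ, Finset.sum_div, map_sum, map_mul, ← Finset.sum_sub_distrib, Algebra.smul_def]
        exact Finset.sum_congr rfl fun i _ => by ring
      have hlt : ∀ R : Place k K, (∀ i, R.1 (φ i / φ j - algebraMap k K (a i)) < 1) →
          R.1 (s / φ j - algebraMap k K γ) < 1 := fun R h => by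
        rw [e]
        exact Valuation.map_sum_lt _ one_ne_zero fun i _ => lt_of_le_of_lt (val_smul_le R _ _) (h i)
      have hval : ∀ R : Place k K, R.1 (φ j) = exp (D R) → f R = 0 → R.1 (s / φ j) = 1 := by
        intro R hjR hR
        rw [map_div₀, hjR, val_eq_exp_ord R hs0, ← exp_sub, ← exp_zero, exp_inj]
        simp only [hf] at hR
        omega
      have h1 := hval P (hF.val_least hjP) hfP
      have hγ0 : γ ≠ 0 := fun e0 => by
        have := hlt P haP
        rw [e0, map_zero, sub_zero, h1] at this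
        exact lt_irrefl _ this
      have h2 : Q.1 (s / φ j) = 1 := by
        rw [show s / φ j = algebraMap k K γ + (s / φ j - algebraMap k K γ) by ring,
          Valuation.map_add_eq_of_lt_left _ (by rw [val_const Q hγ0]; exact hlt Q haQ), val_const Q hγ0]
      rw [map_div₀, hF.val_least hjQ, val_eq_exp_ord Q hs0, ← exp_sub, ← exp_zero, exp_inj] at h2
      simp only [hf]
      omega
    set S := {Q : Place k K | SameImage φ P Q} with hS
    change ∑ᶠ Q ∈ S, f Q = 1 at hsum
    have hex : ∃ Q ∈ S, f Q ≠ 0 := by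
      by_contra! hc
      rw [finsum_mem_congr rfl hc] at hsum
      simp at hsum
    have hfP : f P ≠ 0 := fun h0 => by
      obtain ⟨Q, hQ, hQ0⟩ := hex
      exact hQ0 (hpass P Q hQ h0)
    have hfin : (S ∩ Function.support f).Finite := by
      by_contra hinf
      rw [finsum_mem_eq_zero_of_infinite hinf] at hsum
      exact zero_ne_one hsum
    rw [← finsum_mem_inter_support, finsum_mem_eq_finite_toFinset_sum _ hfin] at hsum
    have hPmem : P ∈ hfin.toFinset := hfin.mem_toFinset.2 ⟨hPP, hfP⟩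
    have hP1 : f P = 1 := by
      have h1 := Finset.single_le_sum (fun Q _ => hnn Q) hPmem
      have := hnn P
      omega
    have honly : ∀ Q ∈ S, f Q ≠ 0 → Q = P := by
      intro Q hQ hQ0
      by_contra hne
      have h1 := Finset.sum_le_sum_of_subset_of_nonneg (f := f)
        (show ({P, Q} : Finset (Place k K)) ⊆ hfin.toFinset from
          Finset.insert_subset hPmem (Finset.singleton_subset_iff.2 (hfin.mem_toFinset.2 ⟨hQ, hQ0⟩)))
        (fun R _ _ => hnn R)
      rw [Finset.sum_pair (Ne.symm hne), hsum, hP1] at h1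
      have := hnn Q
      omega
    have hsP : s ∈ L (D - Finsupp.single P 1) ∧ P.1 s = exp ((D - Finsupp.single P 1 : Divisor k K) P) := by
      have e : P.1 s = exp (D P - 1) := by
        rw [val_eq_exp_ord P hs0, exp_inj]
        simp only [hf] at hP1
        omega
      exact ⟨(mem_L_sub_single zero_le_one).2 ⟨hF.span_le hsW, e.le⟩, by simpa using e⟩
    refine isNonsingularAt_of_sep hK hF fun Q => ?_
    by_contra hne
    obtain ⟨j, -, hj, -⟩ := hF.exists_least P
    by_cases e : Q = P
    · subst e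
      exact hne ⟨s, ⟨hsW, hsP.1⟩, hsP.2⟩
    · have hsame := ((cong_of_not_exact hK hF hne hj).2 e).2.2
      refine e (honly Q hsame fun h0 => ?_)
      obtain ⟨j', hj'0, hjP', hjQ', hc'⟩ := hsame
      exact hfP (hpass Q P ⟨j', hj'0, hjQ', hjP', fun i => (hc' i).imp fun _ hh => hh.symm⟩ h0)

end Groth.Agent.FFEmb.MapS
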