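import Groth.Agent.FFEmb.Map
import Mathlib.RingTheory.Polynomial.GaussLemma
import Mathlib.LinearAlgebra.Matrix.Polynomial
import Mathlib.LinearAlgebra.Matrix.ToLinearEquiv
import Mathlib.RingTheory.PowerBasis
import Mathlib.Algebra.MvPolynomial.Degrees

/-!
Plane models of function fields: degree, equation, and the genus bound.
-/

set_option autoImplicit false
set_option linter.unusedSectionVars false
set_option linter.style.haveILetI false

open FunFld WithZero Polynomial Groth.Agent.FF Groth.Agent.FFEmb.Map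

namespace Groth.Agent.FFEmb.Plane

variable {k K : Type*} [Field k] [Field K] [Algebra k K]

/-- Substitution `X ↦ v`, `W ↦ w` on `k[X][W]`. -/
noncomputable def theta (v w : K) : k[X][X] →+* K :=
  Polynomial.eval₂RingHom (Polynomial.aeval v).toRingHom w

@[simp] lemma theta_X (v w : K) : theta (k := k) v w X = w := by simp [theta]

@[simp] lemma theta_C (v w : K) (a : k[X]) : theta v w (C a) = aeval v a := by simp [theta]

variable (k) in
/-- `X ↦ s T`, `W ↦ T`: the `T`-degree of the image is the total degree. -/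
noncomputable def psi : k[X][X] →+* k[X][X] :=
  Polynomial.eval₂RingHom (Polynomial.aeval (C (X : k[X]) * X : k[X][X])).toRingHom X

lemma coeff_psi (g : k[X][X]) (m i : ℕ) :
    ((psi k g).coeff m).coeff i = if i ≤ m then (g.coeff (m - i)).coeff i else 0 := by
  induction g using Polynomial.induction_on' with
  | add p q hp hq =>
    simp only [map_add, coeff_add, hp, hq]
    split_ifs <;> simp
  | monomial b a =>
    induction a using Polynomial.induction_on' with
    | add p q hp hq =>
      simp only [map_add, coeff_add, hp, hq]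
      split_ifs <;> simp
    | monomial j c =>
      have e : psi k (monomial b (monomial j c)) = monomial (j + b) (monomial j c) := by
        simp only [psi, coe_eval₂RingHom, eval₂_monomial, AlgHom.toRingHom_eq_coe, RingHom.coe_coe,
          aeval_monomial]
        rw [mul_pow, ← C_pow, ← C_mul_X_pow_eq_monomial, ← C_mul_X_pow_eq_monomial (n := j) (a := c),
          Polynomial.algebraMap_apply, Polynomial.algebraMap_apply, Algebra.algebraMap_self_apply,
          pow_add, C_mul]
        ring
      rw [e, coeff_monomial, coeff_monomial]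
      by_cases hi : i ≤ m
      · rw [if_pos hi]
        by_cases h1 : j + b = m
        · rw [if_pos h1]
          by_cases h2 : b = m - i
          · rw [if_pos h2]
          · rw [if_neg h2, coeff_monomial, if_neg (by omega), coeff_zero]
        · rw [if_neg h1, coeff_zero]
          by_cases h2 : b = m - i
          · rw [if_pos h2, coeff_monomial, if_neg (by omega)]
          · rw [if_neg h2, coeff_zero]
      · rw [if_neg hi]
        by_cases h1 : j + b = m
        · rw [if_pos h1, coeff_monomial, if_neg (by omega)]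
        · rw [if_neg h1, coeff_zero]

lemma map_eval_psi (g : k[X][X]) :
    (psi k g).map (evalRingHom 0) = g.map (evalRingHom 0) := by
  ext m
  simp only [coeff_map, coe_evalRingHom, ← coeff_zero_eq_eval_zero]
  rw [coeff_psi, if_pos (Nat.zero_le _), Nat.sub_zero]

lemma natDegree_le_natDegree_psi {g : k[X][X]} (hg : g.Monic) :
    psi k g ≠ 0 ∧ g.natDegree ≤ (psi k g).natDegree := by
  have h1 : ((psi k g).map (evalRingHom (0 : k))).natDegree = g.natDegree := by
    rw [map_eval_psi, hg.natDegree_map]
  have h2 : (psi k g).map (evalRingHom (0 : k)) ≠ 0 := by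
    rw [map_eval_psi]; exact (hg.map _).ne_zero
  exact ⟨fun e => h2 (by rw [e, Polynomial.map_zero]), h1 ▸ natDegree_map_le⟩

variable [IsAlgClosed k]

/-- Coordinates `v, w` of a plane model `(1 : x : y)` with `v` of degree `d`. -/
structure Coord (hK : IsFunctionField k K) (x y : K) (v w : K) (d : ℕ) : Prop where
  fits : Fits ![(1 : K), x, y] (mapDiv k ![(1 : K), x, y])
  deg_eq : (mapDiv k ![(1 : K), x, y]).deg = d
  d_pos : 1 ≤ d
  one_mem : (1 : K) ∈ Submodule.span k (Set.range ![(1 : K), x, y])
  v_mem : v ∈ Submodule.span k (Set.range ![(1 : K), x, y])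
  w_mem : w ∈ Submodule.span k (Set.range ![(1 : K), x, y])
  span_le : Submodule.span k (Set.range ![(1 : K), x, y]) ≤ Submodule.span k {1, v, w}
  lin : ∃ a b c : k, v = algebraMap k K a + algebraMap k K b * x + algebraMap k K c * y ∧
    ((c ≠ 0 ∧ w = x) ∨ (b ≠ 0 ∧ w = y))
  v_exact : ∀ Q : Place k K, ∃ u ∈ ({1, v} : Set K), Q.1 u = exp (mapDiv k ![(1 : K), x, y] Q)
  v_tr : Transcendental k v
  finrank_eq : Module.finrank (IntermediateField.adjoin k ({v} : Set K)) K = d
  gen : IntermediateField.adjoin (IntermediateField.adjoin k ({v} : Set K)) ({w} : Set K) = ⊤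

theorem exists_exact_combination {W : Submodule k K} {D : Divisor k K} (hW : W ≤ L D)
    (hex : ∀ Q : Place k K, ∃ v ∈ W, Q.1 v = exp (D Q)) (s : Finset (Place k K)) :
    ∃ v ∈ W, ∀ Q ∈ s, Q.1 v = exp (D Q) := by
  classical
  induction s using Finset.induction_on with
  | empty => exact ⟨0, zero_mem _, by simp⟩
  | @insert Q s hQ ih =>
    obtain ⟨v, hv, hvs⟩ := ih
    obtain ⟨w, hw, hwQ⟩ := hex Q
    have hmemD : ∀ t : k, v + t • w ∈ W := fun t => add_mem hv (Submodule.smul_mem _ t hw)
    have hbad : ∀ R ∈ insert Q s,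
        {t : k | R.1 (v + t • w) ≠ exp (D R)}.Subsingleton := by
      intro R hR t ht t' ht'
      by_contra hne
      have hlt : ∀ {u : k}, R.1 (v + u • w) ≠ exp (D R) → R.1 (v + u • w) < exp (D R) :=
        fun h => lt_of_le_of_ne (hW (hmemD _) R) h
      have hw' : R.1 w < exp (D R) := by
        have h1 : R.1 ((t - t') • w) < exp (D R) := by
          rw [show (t - t') • w = (v + t • w) - (v + t' • w) by rw [sub_smul]; abel]
          exact lt_of_le_of_lt (R.1.map_sub _ _) (max_lt (hlt ht) (hlt ht'))
        rwa [val_smul R (sub_ne_zero.2 hne)] at h1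
      rcases Finset.mem_insert.1 hR with rfl | hRs
      · exact hw'.ne hwQ
      · refine (hlt ht).ne ?_
        rw [Valuation.map_add_eq_of_lt_left _ (lt_of_le_of_lt (val_smul_le R t w) (hvs R hRs ▸ hw'))]
        exact hvs R hRs
    obtain ⟨t, ht⟩ := Set.Finite.exists_notMem
      ((insert Q s).finite_toSet.biUnion fun R hR => (hbad R hR).finite)
    refine ⟨v + t • w, hmemD t, fun R hR => ?_⟩
    by_contra h
    exact ht (Set.mem_biUnion hR h)

theorem exists_coord (hK : IsFunctionField k K) (x y : K)
    (hxy : IntermediateField.adjoin k ({x, y} : Set K) = ⊤) :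
    ∃ (v w : K) (d : ℕ), Coord hK x y v w d := by
  classical
  set D := mapDiv k ![(1 : K), x, y] with hD
  set W := Submodule.span k (Set.range ![(1 : K), x, y]) with hW
  have hF : Fits ![(1 : K), x, y] D := fits_mapDiv hK _ (Or.inr ⟨0, rfl⟩)
  have h1W : (1 : K) ∈ W := Submodule.subset_span ⟨0, rfl⟩
  have hD0 : 0 ≤ D := by
    have h2 := (mem_L_iff hK.1 one_ne_zero).1 (hF.span_le h1W)
    rwa [show div k (1 : K) = 0 by simpa using div_const hK.1 (1 : k), add_zero] at h2
  obtain ⟨x₀, hx₀, -⟩ := hK.1
  -- some pole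
  obtain ⟨Q₀, hQ₀⟩ : ∃ Q : Place k K, 0 < D Q := by
    by_contra! hc
    have hD' : D = 0 := le_antisymm (fun Q => hc Q) hD0
    have hmem : ∀ i, ![(1 : K), x, y] i ∈ (IntermediateField.adjoin k (∅ : Set K)) := fun i => by
      have h2 := hF.mem i
      rw [hD', L_zero hK, Submodule.mem_one] at h2
      obtain ⟨c, hc⟩ := h2
      rw [← hc]; exact IntermediateField.algebraMap_mem _ c
    have htop : IntermediateField.adjoin k ({x, y} : Set K) ≤ IntermediateField.adjoin k ∅ := by
      rw [IntermediateField.adjoin_le_iff, Set.insert_subset_iff, Set.singleton_subset_iff]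
      exact ⟨hmem 1, hmem 2⟩
    rw [hxy, IntermediateField.adjoin_empty] at htop
    have hmem₀ : x₀ ∈ (⊥ : IntermediateField k K) := htop trivial
    obtain ⟨c, hc⟩ := IntermediateField.mem_bot.1 hmem₀
    exact hx₀ (by rw [← hc]; exact isAlgebraic_algebraMap c)
  obtain ⟨v, hv, hvD⟩ := exists_exact_combination hF.span_le hF.span_exact D.support
  have hvQ : ∀ Q : Place k K, D Q ≠ 0 → Q.1 v = exp (D Q) := fun Q h =>
    hvD Q (Finsupp.mem_support_iff.2 h)
  have hv0 : v ≠ 0 := ne_zero_of_val_eq_exp Q₀ (hvQ Q₀ hQ₀.ne')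
  have hvtr : Transcendental k v := fun h => by
    have h2 := ord_eq_zero_of_isAlgebraic Q₀ h
    rw [ord_of_val_eq Q₀ (hvQ Q₀ hQ₀.ne')] at h2
    omega
  -- pole divisor
  have hdeg : (Module.finrank (IntermediateField.adjoin k ({v} : Set K)) K : ℤ) = D.deg := by
    have hvinv : Transcendental k v⁻¹ := fun h => hvtr (by simpa using h.inv)
    have e : zeroDiv (k := k) v⁻¹ = D := by
      ext Q
      simp only [zeroDiv, Finsupp.sup_apply, div_apply hK.1, ord_inv, Finsupp.coe_zero, Pi.zero_apply]
      rcases eq_or_ne (D Q) 0 with h0 | h0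
      · have h2 := (mem_L_iff hK.1 hv0).1 (hF.span_le hv) Q
        simp only [Finsupp.add_apply, Finsupp.coe_zero, Pi.zero_apply, div_apply hK.1] at h2
        rw [h0] at h2 ⊢
        exact max_eq_right (by omega)
      · rw [ord_of_val_eq Q (hvQ Q h0), neg_neg]
        exact max_eq_left (hD0 Q)
    have h1 := deg_zeroDiv hK.1 hvinv
    rw [e] at h1
    have e2 : (IntermediateField.adjoin k ({v⁻¹} : Set K)) = IntermediateField.adjoin k ({v} : Set K) := by
      apply le_antisymm <;> rw [IntermediateField.adjoin_le_iff, Set.singleton_subset_iff]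
      · exact inv_mem (IntermediateField.mem_adjoin_simple_self k v)
      · have := inv_mem (IntermediateField.mem_adjoin_simple_self k v⁻¹)
        rwa [inv_inv] at this
    rw [e2] at h1
    exact h1.symm
  obtain ⟨f, hf⟩ := (Submodule.mem_span_range_iff_exists_fun k).1 hv
  have hv' : v = algebraMap k K (f 0) + algebraMap k K (f 1) * x + algebraMap k K (f 2) * y := by
    rw [← hf]
    simp [Fin.sum_univ_three, Algebra.smul_def]
  set w := if f 2 ≠ 0 then x else y with hwdef
  have hlin : (f 2 ≠ 0 ∧ w = x) ∨ (f 1 ≠ 0 ∧ w = y) := by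
    by_cases h2 : f 2 = 0
    · refine Or.inr ⟨fun h1 => ?_, by simp [hwdef, h2]⟩
      apply hvtr
      rw [hv', h1, h2, map_zero, zero_mul, zero_mul, add_zero, add_zero]
      exact isAlgebraic_algebraMap _
    · exact Or.inl ⟨h2, by simp [hwdef, h2]⟩
  have hwW : w ∈ W := by
    rcases hlin with ⟨-, e⟩ | ⟨-, e⟩
    · exact e ▸ Submodule.subset_span ⟨1, rfl⟩
    · exact e ▸ Submodule.subset_span ⟨2, rfl⟩
  set U := Submodule.span k ({1, v, w} : Set K) with hU
  have h1U : (1 : K) ∈ U := Submodule.subset_span (by simp)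
  have hvU : v ∈ U := Submodule.subset_span (by simp)
  have hwU : w ∈ U := Submodule.subset_span (by simp)
  have hxyU : x ∈ U ∧ y ∈ U := by
    rcases hlin with ⟨h2, e⟩ | ⟨h1, e⟩
    · refine ⟨e ▸ hwU, ?_⟩
      have hy : y = (f 2)⁻¹ • (v - f 0 • 1 - f 1 • w) := by
        have : algebraMap k K (f 2) ≠ 0 := by simpa using h2
        rw [e, hv']
        simp only [Algebra.smul_def, map_inv₀, mul_one]
        field_simp
        ring
      rw [hy]
      exact Submodule.smul_mem _ _ (sub_mem (sub_mem hvU (Submodule.smul_mem _ _ h1U))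
        (Submodule.smul_mem _ _ hwU))
    · refine ⟨?_, e ▸ hwU⟩
      have hx : x = (f 1)⁻¹ • (v - f 0 • 1 - f 2 • w) := by
        have : algebraMap k K (f 1) ≠ 0 := by simpa using h1
        rw [e, hv']
        simp only [Algebra.smul_def, map_inv₀, mul_one]
        field_simp
        ring
      rw [hx]
      exact Submodule.smul_mem _ _ (sub_mem (sub_mem hvU (Submodule.smul_mem _ _ h1U))
        (Submodule.smul_mem _ _ hwU))
  have hspan : W ≤ U := by
    rw [hW, Submodule.span_le]
    rintro _ ⟨i, rfl⟩
    fin_cases i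
    · exact h1U
    · exact hxyU.1
    · exact hxyU.2
  have hgen : IntermediateField.adjoin (IntermediateField.adjoin k ({v} : Set K)) ({w} : Set K) = ⊤ := by
    set F := IntermediateField.adjoin k ({v} : Set K)
    set G := IntermediateField.adjoin F ({w} : Set K)
    have hU' : ∀ u ∈ U, u ∈ G := by
      intro u hu
      induction hu using Submodule.span_induction with
      | mem u hu =>
        simp only [Set.mem_insert_iff, Set.mem_singleton_iff] at hu
        rcases hu with h | h | h
        · rw [h]; exact one_mem G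
        · rw [h]; exact G.algebraMap_mem ⟨v, IntermediateField.mem_adjoin_simple_self k v⟩
        · rw [h]; exact IntermediateField.mem_adjoin_simple_self F w
      | zero => exact zero_mem G
      | add a b _ _ ha hb => exact add_mem ha hb
      | smul c a _ ha =>
        rw [Algebra.smul_def]
        exact mul_mem (G.algebraMap_mem (algebraMap k F c)) ha
    have htop : IntermediateField.adjoin k ({x, y} : Set K) ≤ G.restrictScalars k := by
      rw [IntermediateField.adjoin_le_iff, Set.insert_subset_iff, Set.singleton_subset_iff]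
      exact ⟨hU' _ hxyU.1, hU' _ hxyU.2⟩
    rw [hxy] at htop
    exact eq_top_iff.2 fun z _ => htop (trivial : z ∈ (⊤ : IntermediateField k K))
  haveI : FiniteDimensional (IntermediateField.adjoin k ({v} : Set K)) K := finite_adjoin hK.1 hvtr
  refine ⟨v, w, D.deg.toNat, ?_, ?_, ?_, h1W, hv, hwW, hspan,
    ⟨f 0, f 1, f 2, hv', hlin⟩, fun Q => ?_, hvtr, ?_, hgen⟩
  · exact hF
  · have h0 : (0 : ℤ) ≤ D.deg := hdeg ▸ Int.natCast_nonneg _
    exact (Int.toNat_of_nonneg h0).symm
  · have h3 : (0 : ℤ) < Module.finrank (IntermediateField.adjoin k ({v} : Set K)) K := by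
      exact_mod_cast Module.finrank_pos
    omega
  · rcases eq_or_ne (D Q) 0 with h0 | h0
    · exact ⟨1, by simp, by rw [map_one, h0, exp_zero]⟩
    · exact ⟨v, by simp, hvQ Q h0⟩
  · omega

variable {hK : IsFunctionField k K} {x y v w : K} {d : ℕ} (hc : Coord hK x y v w d)
include hc

theorem Coord.natDegree_minpoly :
    (minpoly (IntermediateField.adjoin k ({v} : Set K)) w).natDegree = d := by
  haveI : FiniteDimensional (IntermediateField.adjoin k ({v} : Set K)) K := finite_adjoin hK.1 hc.v_tr
  rw [← IntermediateField.adjoin.finrank (Algebra.IsIntegral.isIntegral w), hc.gen,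
    IntermediateField.finrank_top', hc.finrank_eq]

theorem Coord.indep (c : ℕ → k[X])
    (h : ∑ b ∈ Finset.range d, aeval v (c b) * w ^ b = 0) : ∀ b < d, c b = 0 := by
  haveI : FiniteDimensional (IntermediateField.adjoin k ({v} : Set K)) K := finite_adjoin hK.1 hc.v_tr
  set F := IntermediateField.adjoin k ({v} : Set K)
  have hli := linearIndependent_pow (K := F) w
  rw [Fintype.linearIndependent_iff] at hli
  have hd := hc.natDegree_minpoly
  let gv : F := ⟨v, IntermediateField.mem_adjoin_simple_self k v⟩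
  intro b hb
  have h2 := hli (fun i => aeval gv (c i)) (by
    rw [← Finset.sum_range (f := fun i => (aeval gv (c i)) • w ^ i), hd]
    refine (Finset.sum_congr rfl fun i _ => ?_).trans h
    rw [Algebra.smul_def]
    congr 1
    exact (Polynomial.aeval_algebraMap_apply K gv (c i)).symm) ⟨b, hb.trans_le hd.ge⟩
  have h3 : aeval v (c b) = 0 := by
    rw [show v = algebraMap F K gv from rfl, Polynomial.aeval_algebraMap_apply, h2, map_zero]
  by_contra hne
  exact hc.v_tr ⟨c b, hne, h3⟩

omit hc in
/-- Exponents `(b, a)` with `b < d` and `a + b ≤ n`. -/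
def idx (d n : ℕ) : Finset (Σ _ : ℕ, ℕ) := (Finset.range d).sigma fun b => Finset.range (n + 1 - b)

omit hc in
variable (k) in
/-- The span of `v^a w^b`, `b < d`, `a + b ≤ n`. -/
noncomputable def A (v w : K) (d n : ℕ) : Submodule k K :=
  Submodule.span k (Set.range fun p : idx d n => v ^ p.1.2 * w ^ p.1.1)

omit hc in
theorem mem_A {n a b : ℕ} (hb : b < d) (hab : a + b ≤ n) : v ^ a * w ^ b ∈ A k v w d n :=
  Submodule.subset_span ⟨⟨⟨b, a⟩, Finset.mem_sigma.2 ⟨Finset.mem_range.2 hb,
    Finset.mem_range.2 (show a < n + 1 - b by omega)⟩⟩, rfl⟩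

theorem Coord.finrank_A {n : ℕ} (hn : d ≤ n + 1) :
    2 * (Module.finrank k (A k v w d n) : ℤ) = d * (2 * (n : ℤ) + 3 - d) := by
  have hli : LinearIndependent k fun p : idx d n => v ^ p.1.2 * w ^ p.1.1 := by
    rw [Fintype.linearIndependent_iff]
    intro g hg p₀
    classical
    let G : (Σ _ : ℕ, ℕ) → k := fun p => if h : p ∈ idx d n then g ⟨p, h⟩ else 0
    let c : ℕ → k[X] := fun b => ∑ a ∈ Finset.range (n + 1 - b), Polynomial.monomial a (G ⟨b, a⟩)
    have h0 := hc.indep c (by
      have e : ∑ p ∈ idx d n, G p • (v ^ p.2 * w ^ p.1) = 0 := by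
        rw [← Finset.sum_coe_sort]
        exact (Finset.sum_congr rfl fun p _ => by simp only [G, dif_pos p.2, Subtype.coe_eta]).trans hg
      rw [idx, Finset.sum_sigma] at e
      refine Eq.trans ?_ e
      refine Finset.sum_congr rfl fun b _ => ?_
      simp only [c, map_sum, Finset.sum_mul, aeval_monomial]
      refine Finset.sum_congr rfl fun a _ => ?_
      rw [Algebra.smul_def, mul_assoc])
    obtain ⟨⟨b, a⟩, hp⟩ := p₀
    obtain ⟨hb, ha⟩ := Finset.mem_sigma.1 hp
    have h1 := congrArg (fun q : k[X] => q.coeff a) (h0 b (Finset.mem_range.1 hb))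
    simp only [c, finset_sum_coeff, coeff_monomial, Finset.sum_ite_eq', coeff_zero] at h1
    rw [if_pos ha] at h1
    simp only [G, dif_pos hp] at h1
    exact h1
  rw [A, finrank_span_eq_card hli, Fintype.card_coe, idx, Finset.card_sigma]
  simp only [Finset.card_range, Nat.cast_sum]
  clear hli
  have : ∀ e : ℕ, e ≤ n + 1 →
      2 * ∑ b ∈ Finset.range e, ((n + 1 - b : ℕ) : ℤ) = e * (2 * (n : ℤ) + 3 - e) := by
    intro e he
    induction e with
    | zero => simp
    | succ e ih =>
      rw [Finset.sum_range_succ, mul_add, ih (by omega), Nat.cast_sub (by omega)]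
      push_cast
      ring
  exact this d hn

theorem Coord.A_le_pow (n : ℕ) : A k v w d n ≤ Submodule.span k (Set.range ![(1 : K), x, y]) ^ n := by
  rw [A, Submodule.span_le]
  rintro _ ⟨⟨⟨b, a⟩, hp⟩, rfl⟩
  obtain ⟨hb, ha⟩ := Finset.mem_sigma.1 hp
  rw [Finset.mem_range] at ha
  obtain ⟨r, rfl⟩ : ∃ r, n = a + b + r := ⟨n - a - b, by simp only at ha; omega⟩
  show v ^ a * w ^ b ∈ _
  rw [show v ^ a * w ^ b = v ^ a * w ^ b * 1 ^ r by rw [one_pow, mul_one], pow_add, pow_add]
  exact Submodule.mul_mem_mul (Submodule.mul_mem_mul (Submodule.pow_mem_pow _ hc.v_mem a)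
    (Submodule.pow_mem_pow _ hc.w_mem b)) (Submodule.pow_mem_pow _ hc.one_mem r)

theorem Coord.ell_eq {n : ℕ} (hn : 2 * genus k K + 1 ≤ n) :
    (ell (n • mapDiv k ![(1 : K), x, y]) : ℤ) = n * d + 1 - genus k K := by
  have hd := hc.d_pos
  have hdeg : (n • mapDiv k ![(1 : K), x, y]).deg = (n : ℤ) * d := by
    rw [← natCast_zsmul, deg_zsmul, hc.deg_eq]
  have := ell_eq_of_deg_ge hK (D := n • mapDiv k ![(1 : K), x, y]) (by rw [hdeg]; nlinarith)
  rw [hdeg] at this
  exact this

theorem Coord.genus_le : 2 * (genus k K : ℤ) ≤ ((d : ℤ) - 1) * ((d : ℤ) - 2) := by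
  let n := 2 * genus k K + 1 + d
  have h1 := hc.finrank_A (n := n) (by omega)
  haveI := finiteDimensional_L hK (n • mapDiv k ![(1 : K), x, y])
  have h2 := Submodule.finrank_mono ((hc.A_le_pow n).trans (pow_le_L hK hc.fits n))
  have h3 := hc.ell_eq (n := n) (by omega)
  simp only [ell] at h3
  have h4 : (Module.finrank k (A k v w d n) : ℤ) ≤ n * d + 1 - genus k K := by
    rw [← h3]; exact_mod_cast h2
  nlinarith

/-- The monic equation of degree `d`. -/
theorem Coord.exists_equation : ∃ g : k[X][X], g.Monic ∧ g.natDegree = d ∧ theta v w g = 0 ∧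
    ∀ m i : ℕ, d < i + m → (g.coeff m).coeff i = 0 := by
  classical
  set D := mapDiv k ![(1 : K), x, y] with hD
  let M := 2 * genus k K + 1
  have hd := hc.d_pos
  have hVle : Submodule.span k ({1, v} : Set K) ≤ L D := by
    rw [Submodule.span_le, Set.insert_subset_iff, Set.singleton_subset_iff]
    exact ⟨hc.fits.span_le hc.one_mem, hc.fits.span_le hc.v_mem⟩
  have hVex : ∀ Q : Place k K, ∃ u ∈ Submodule.span k ({1, v} : Set K), Q.1 u = exp (D Q) := fun Q =>
    let ⟨u, hu, huQ⟩ := hc.v_exact Q; ⟨u, Submodule.subset_span hu, huQ⟩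
  have hsurj : L (D + M • D) ≤ Submodule.span k ({1, v} : Set K) * L (M • D) := by
    refine L_add_le hK hVle hVex ?_
    rw [← natCast_zsmul, deg_zsmul, hD, hc.deg_eq]
    simp only [M]
    push_cast
    nlinarith
  haveI := finiteDimensional_L hK (M • D)
  let B := Module.finBasis k (L (M • D))
  set N := Module.finrank k (L (M • D))
  have hcoef : ∀ i : Fin N, ∃ α β : Fin N → k,
      w * (B i : K) = ∑ j, α j • (B j : K) + v * ∑ j, β j • (B j : K) := by
    intro i
    have hmem : w * (B i : K) ∈ L (D + M • D) := fun Q => by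
      rw [map_mul, Finsupp.add_apply, exp_add]
      exact mul_le_mul' (hc.fits.span_le hc.w_mem Q) ((B i).2 Q)
    have hexp : ∀ u ∈ L (M • D), ∃ α : Fin N → k, u = ∑ j, α j • (B j : K) := fun u hu =>
      ⟨fun j => B.repr ⟨u, hu⟩ j, by
        refine (congrArg Subtype.val (B.sum_repr ⟨u, hu⟩)).symm.trans ?_
        rw [Submodule.coe_sum]
        rfl⟩
    refine Submodule.mul_induction_on (hsurj hmem) (fun u hu b hb => ?_) ?_
    · obtain ⟨α, hα⟩ := hexp b hb
      obtain ⟨p, q, rfl⟩ := Submodule.mem_span_pair.1 hu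
      refine ⟨fun j => p * α j, fun j => q * α j, ?_⟩
      rw [hα]
      simp only [Algebra.smul_def, mul_one, map_mul, Finset.mul_sum, add_mul]
      rw [← Finset.sum_add_distrib]
      refine Finset.sum_congr rfl fun j _ => by ring
    · rintro a b ⟨α, β, ha⟩ ⟨α', β', hb⟩
      refine ⟨α + α', β + β', ?_⟩
      rw [ha, hb]
      simp only [Pi.add_apply, add_smul, Finset.sum_add_distrib]
      ring
  choose α β hαβ using hcoef
  let Mat : Matrix (Fin N) (Fin N) k[X][X] := fun i j =>
    (if i = j then X else 0) - C (C (α i j)) - C (X * C (β i j))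
  let f₀ := Mat.det
  have hθ : theta v w f₀ = 0 := by
    rw [RingHom.map_det, ← Matrix.exists_mulVec_eq_zero_iff]
    refine ⟨fun j => (B j : K), fun e => ?_, ?_⟩
    · have hN : 0 < N := by
        refine Module.finrank_pos_iff_exists_ne_zero.2 ⟨⟨1, ?_⟩, fun e => one_ne_zero (congrArg Subtype.val e)⟩
        have hD0 : 0 ≤ D := by
          have h2 := (mem_L_iff hK.1 one_ne_zero).1 (hc.fits.span_le hc.one_mem)
          rwa [show div k (1 : K) = 0 by simpa using div_const hK.1 (1 : k), add_zero] at h2
        have h0 : (1 : K) ∈ L (0 : Divisor k K) := by simpa using L_zero_le_of_const (K := K) (1 : k)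
        exact L_mono (nsmul_nonneg hD0 M) h0
      exact B.ne_zero ⟨0, hN⟩ (Subtype.ext (congrFun e ⟨0, hN⟩))
    · ext i
      simp only [Matrix.mulVec, dotProduct, RingHom.mapMatrix_apply, Matrix.map_apply, Mat, map_sub,
        theta_C, map_mul, aeval_C, aeval_X, apply_ite (theta (k := k) v w), theta_X, map_zero,
        sub_mul, ite_mul, zero_mul, Finset.sum_sub_distrib, Finset.sum_ite_eq, Finset.mem_univ,
        if_true, Pi.zero_apply]
      rw [hαβ i]
      simp only [Algebra.smul_def, Finset.mul_sum]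
      rw [add_sub_cancel_left, sub_eq_zero]
      exact Finset.sum_congr rfl fun j _ => by ring
  let A' : Matrix (Fin N) (Fin N) k[X] := 1
  have hmonic : f₀.Monic ∧ f₀.natDegree = N := by
    let Mx : Matrix (Fin N) (Fin N) k[X] := fun i j => C (α i j) + X * C (β i j)
    have e : Mat = Mx.charmatrix := by
      ext i j : 2
      by_cases hij : i = j
      · subst hij; simp [Mat, Mx, sub_sub]
      · simp [Mat, Mx, Matrix.charmatrix_apply_ne _ _ _ hij, hij]; ring
    refine ⟨?_, ?_⟩
    · simp only [f₀, e]; exact Mx.charpoly_monic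
    · simp only [f₀, e]; exact (Mx.charpoly_natDegree_eq_dim).trans (Fintype.card_fin N)
  have hψ : (psi k f₀).natDegree ≤ N := by
    simp only [f₀, RingHom.map_det]
    have e : (psi k).mapMatrix Mat = (X : k[X][X]) • (Matrix.of fun i j =>
        (if i = j then 1 else 0) - X * C (β i j) : Matrix (Fin N) (Fin N) k[X]).map C +
        (Matrix.of fun i j => -C (α i j) : Matrix (Fin N) (Fin N) k[X]).map C := by
      refine Matrix.ext fun i j => ?_
      by_cases hij : i = j
      · simp [Mat, psi, hij]; ring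
      · simp [Mat, psi, hij]; ring
    rw [e]
    exact (natDegree_det_X_add_C_le _ _).trans_eq (Fintype.card_fin N)
  set F := IntermediateField.adjoin k ({v} : Set K)
  haveI : FiniteDimensional F K := finite_adjoin hK.1 hc.v_tr
  let gv : F := ⟨v, IntermediateField.mem_adjoin_simple_self k v⟩
  letI algF : Algebra k[X] F := (Polynomial.aeval gv).toRingHom.toAlgebra
  have halg : ∀ p : k[X], ((algebraMap k[X] F p : F) : K) = aeval v p := fun p =>
    (Polynomial.aeval_algebraMap_apply K gv p).symm
  haveI : FaithfulSMul k[X] F := (faithfulSMul_iff_algebraMap_injective _ _).2 fun p q e => by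
    by_contra hne
    exact hc.v_tr ⟨p - q, sub_ne_zero.2 hne, by
      rw [map_sub, sub_eq_zero, ← halg, ← halg, e]⟩
  haveI : IsFractionRing k[X] F := IsFractionRing.of_field _ _ fun z => by
    obtain ⟨r, s, hrs⟩ := (IntermediateField.mem_adjoin_simple_iff (F := k) (z : K)).1 z.2
    exact ⟨r, s, Subtype.ext (by push_cast; rw [halg, halg]; exact hrs)⟩
  have hθmap : ∀ h : k[X][X], theta v w h = aeval w (h.map (algebraMap k[X] F)) := by
    intro h
    rw [aeval_def, eval₂_map, theta, coe_eval₂RingHom]
    congr 1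
    exact RingHom.ext fun p => (halg p).symm
  have hint : IsIntegral F w := Algebra.IsIntegral.isIntegral w
  have hdvd : minpoly F w ∣ f₀.map (algebraMap k[X] F) :=
    minpoly.dvd F w (by rw [← hθmap]; exact hθ)
  obtain ⟨g, hg⟩ := IsIntegrallyClosed.eq_map_mul_C_of_dvd F hmonic.1 hdvd
  rw [(minpoly.monic hint).leadingCoeff, C_1, mul_one] at hg
  have hinj := FaithfulSMul.algebraMap_injective k[X] F
  have hgm : g.Monic := hinj.monic_map_iff.2 (hg ▸ minpoly.monic hint)
  have hgd : g.natDegree = d := by
    rw [← hc.natDegree_minpoly, ← hg, hgm.natDegree_map]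
  obtain ⟨h, hh⟩ := (Monic.dvd_iff_fraction_map_dvd_fraction_map (K := F) hmonic.1 hgm).1 (hg ▸ hdvd)
  have hhm : h.Monic := hgm.of_mul_monic_left (hh ▸ hmonic.1)
  have hdh : d + h.natDegree = N := by rw [← hgd, ← hgm.natDegree_mul hhm, ← hh, hmonic.2]
  obtain ⟨hg0, hgle⟩ := natDegree_le_natDegree_psi hgm
  obtain ⟨hh0, hhle⟩ := natDegree_le_natDegree_psi hhm
  rw [hh, map_mul, natDegree_mul hg0 hh0] at hψ
  refine ⟨g, hgm, hgd, by rw [hθmap, hg, minpoly.aeval], fun m i hmi => ?_⟩
  have h0 : (psi k g).coeff (i + m) = 0 := coeff_eq_zero_of_natDegree_lt (by omega)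
  have h1 := coeff_psi g (i + m) i
  rw [h0, coeff_zero, if_pos (Nat.le_add_right i m), Nat.add_sub_cancel_left] at h1
  exact h1.symm

theorem Coord.pow_le_A (n : ℕ) :
    Submodule.span k (Set.range ![(1 : K), x, y]) ^ n ≤ A k v w d n := by
  obtain ⟨g, hgm, hgd, hgθ, hgb⟩ := hc.exists_equation
  have hd := hc.d_pos
  have hrel : ∀ a, v ^ a * w ^ d ∈ A k v w d (a + d) := by
    intro a
    have h1 : theta v w g = ∑ b ∈ Finset.range d, aeval v (g.coeff b) * w ^ b + w ^ d := by
      rw [theta, coe_eval₂RingHom, eval₂_eq_sum_range, hgd, Finset.sum_range_succ,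
        show g.coeff d = 1 from hgd ▸ hgm.coeff_natDegree, map_one, one_mul]
      rfl
    rw [hgθ] at h1
    rw [eq_neg_of_add_eq_zero_right h1.symm, mul_neg, Finset.mul_sum]
    refine neg_mem (sum_mem fun b hb => ?_)
    rw [aeval_eq_sum_range, Finset.sum_mul, Finset.mul_sum]
    refine sum_mem fun i _ => ?_
    rcases eq_or_ne ((g.coeff b).coeff i) 0 with h0 | h0
    · rw [h0, zero_smul, zero_mul, mul_zero]; exact zero_mem _
    · have hib : i + b ≤ d := not_lt.1 fun hlt => h0 (hgb b i hlt)
      rw [smul_mul_assoc, mul_smul_comm, ← mul_assoc, ← pow_add]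
      exact Submodule.smul_mem _ _ (mem_A (Finset.mem_range.1 hb) (by omega))
  have hmono : ∀ {m m' : ℕ}, m ≤ m' → A k v w d m ≤ A k v w d m' := fun {m m'} hle => by
    rw [A, Submodule.span_le]
    rintro _ ⟨⟨⟨b, a⟩, hp⟩, rfl⟩
    obtain ⟨hb, ha⟩ := Finset.mem_sigma.1 hp
    rw [Finset.mem_range] at hb ha
    simp only at hb ha
    exact mem_A hb (show a + b ≤ m' by omega)
  induction n with
  | zero =>
    rw [pow_zero, Submodule.one_eq_span, Submodule.span_singleton_le_iff_mem]
    simpa using mem_A (k := k) (v := v) (w := w) (n := 0) (a := 0) (b := 0) hd le_rfl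
  | succ n ih =>
    rw [pow_succ, Submodule.mul_le]
    intro u hu z hz
    have hu' := ih hu
    clear hu
    induction hu' using Submodule.span_induction with
    | mem u hu =>
      obtain ⟨⟨⟨b, a⟩, hp⟩, rfl⟩ := hu
      obtain ⟨hb, ha⟩ := Finset.mem_sigma.1 hp
      rw [Finset.mem_range] at hb ha
      simp only at ha hb ⊢
      have hz' := hc.span_le hz
      clear hz
      induction hz' using Submodule.span_induction with
      | mem z hz =>
        simp only [Set.mem_insert_iff, Set.mem_singleton_iff] at hz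
        rcases hz with h | h | h
        · rw [h, mul_one]; exact mem_A hb (by omega)
        · rw [h, mul_right_comm, ← pow_succ]; exact mem_A hb (by omega)
        · rw [h, mul_assoc, ← pow_succ]
          rcases Nat.lt_or_ge (b + 1) d with hlt | hge
          · exact mem_A hlt (by omega)
          · rw [show b + 1 = d by omega]
            exact hmono (by omega) (hrel a)
      | zero => rw [mul_zero]; exact zero_mem _
      | add z z' _ _ h1 h2 => rw [mul_add]; exact add_mem h1 h2
      | smul c z _ h1 => rw [mul_smul_comm]; exact Submodule.smul_mem _ c h1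
    | zero => rw [zero_mul]; exact zero_mem _
    | add a b _ _ h1 h2 => rw [add_mul]; exact add_mem h1 h2
    | smul c a _ h1 => rw [smul_mul_assoc]; exact Submodule.smul_mem _ c h1

theorem Coord.genus_eq_iff :
    2 * (genus k K : ℤ) = ((d : ℤ) - 1) * ((d : ℤ) - 2) ↔
      ∀ P : Place k K, IsNonsingularAt ![(1 : K), x, y] P := by
  set D := mapDiv k ![(1 : K), x, y] with hD
  constructor
  · intro hg
    refine isNonsingularAt_of_L_le_pow hK hc.fits (by rw [hc.deg_eq]; exact_mod_cast hc.d_pos)
      (n₀ := 2 * genus k K + 1 + d) fun n hn => ?_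
    haveI := finiteDimensional_L hK (n • D)
    have h1 := hc.finrank_A (n := n) (by omega)
    have h2 := hc.ell_eq (n := n) (by omega)
    simp only [ell] at h2
    have e : A k v w d n = L (n • D) := by
      refine Submodule.eq_of_le_of_finrank_eq ((hc.A_le_pow n).trans (pow_le_L hK hc.fits n)) ?_
      have : (Module.finrank k (A k v w d n) : ℤ) = Module.finrank k (L (n • D)) := by
        rw [h2]; linarith
      exact_mod_cast this
    exact e ▸ hc.A_le_pow n
  · intro h
    obtain ⟨n₀, hn₀⟩ := exists_L_le_pow hK hc.fits h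
    let n := n₀ + 2 * genus k K + 1 + d
    have h1 := hc.finrank_A (n := n) (by omega)
    have h2 := hc.ell_eq (n := n) (by omega)
    simp only [ell] at h2
    have e : A k v w d n = L (n • D) :=
      le_antisymm ((hc.A_le_pow n).trans (pow_le_L hK hc.fits n))
        ((hn₀ n (by omega)).trans (hc.pow_le_A n))
    rw [e, h2] at h1
    linarith

theorem Coord.totalDegree_eq (f : MvPolynomial (Fin 2) k) (hf : Irreducible f)
    (hfxy : MvPolynomial.aeval ![x, y] f = 0) : f.totalDegree = d := by
  classical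
  obtain ⟨g, hgm, hgd, hgθ, hgb⟩ := hc.exists_equation
  obtain ⟨a, b, c, hv, hlin⟩ := hc.lin
  -- a linear change of coordinates
  obtain ⟨Lv, Lw, Tx, Ty, hLv, hLw, hT, hTd, hσv, hσw, hτv, hτw⟩ :
      ∃ (Lv Lw : MvPolynomial (Fin 2) k) (Tx Ty : k[X][X]),
        Lv.totalDegree ≤ 1 ∧ Lw.totalDegree ≤ 1 ∧ (theta v w Tx = x ∧ theta v w Ty = y) ∧
        (Tx.natDegree ≤ 1 ∧ Ty.natDegree ≤ 1) ∧
        (∀ φ : k[X][X] →+* MvPolynomial (Fin 2) k, φ X = Lw → φ (C X) = Lv →
          (∀ r : k, φ (C (C r)) = MvPolynomial.C r) →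
            φ Tx = MvPolynomial.X 0 ∧ φ Ty = MvPolynomial.X 1) ∧ True ∧
        MvPolynomial.aeval ![Tx, Ty] Lv = C X ∧ MvPolynomial.aeval ![Tx, Ty] Lw = X := by
    have hcC : ∀ r : k, algebraMap k k[X][X] r = C (C r) := fun r => rfl
    rcases hlin with ⟨hc0, hw⟩ | ⟨hb0, hw⟩
    · refine ⟨MvPolynomial.C a + MvPolynomial.C b * MvPolynomial.X 0 + MvPolynomial.C c * MvPolynomial.X 1,
        MvPolynomial.X 0, X, C (C c⁻¹) * (C X - C (C a) - C (C b) * X), ?_, ?_, ⟨?_, ?_⟩, ⟨?_, ?_⟩, ?_, trivial, ?_, ?_⟩
      · exact (MvPolynomial.totalDegree_add _ _).trans (max_le ((MvPolynomial.totalDegree_add _ _).trans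
          (max_le (by simp) ((MvPolynomial.totalDegree_mul _ _).trans (by simp))))
          ((MvPolynomial.totalDegree_mul _ _).trans (by simp)))
      · simp
      · rw [theta_X, hw]
      · simp only [map_mul, map_sub, theta_C, theta_X, aeval_C, aeval_X]
        rw [hw, hv, map_inv₀]
        have : algebraMap k K c ≠ 0 := by simpa using hc0
        field_simp
        ring
      · exact natDegree_X_le
      · refine (natDegree_C_mul_le _ _).trans ((natDegree_sub_le _ _).trans (max_le
          ((natDegree_sub_le _ _).trans (by simp)) ((natDegree_C_mul_le _ _).trans natDegree_X_le)))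
      · intro φ h1 h2 h3
        refine ⟨h1, ?_⟩
        simp only [map_mul, map_sub, h1, h2, h3]
        ring_nf
        rw [← map_mul, inv_mul_cancel₀ hc0, map_one, one_mul]
      · simp only [map_add, map_mul, MvPolynomial.aeval_X, MvPolynomial.aeval_C, Matrix.cons_val_zero,
          Matrix.cons_val_one, hcC]
        rw [← mul_assoc, ← map_mul C, ← map_mul C, mul_inv_cancel₀ hc0, map_one, map_one]
        ring
      · simp
    · refine ⟨MvPolynomial.C a + MvPolynomial.C b * MvPolynomial.X 0 + MvPolynomial.C c * MvPolynomial.X 1,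
        MvPolynomial.X 1, C (C b⁻¹) * (C X - C (C a) - C (C c) * X), X, ?_, ?_, ⟨?_, ?_⟩, ⟨?_, ?_⟩, ?_, trivial, ?_, ?_⟩
      · exact (MvPolynomial.totalDegree_add _ _).trans (max_le ((MvPolynomial.totalDegree_add _ _).trans
          (max_le (by simp) ((MvPolynomial.totalDegree_mul _ _).trans (by simp))))
          ((MvPolynomial.totalDegree_mul _ _).trans (by simp)))
      · simp
      · simp only [map_mul, map_sub, theta_C, theta_X, aeval_C, aeval_X]
        rw [hw, hv, map_inv₀]
        have : algebraMap k K b ≠ 0 := by simpa using hb0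
        field_simp
        ring
      · rw [theta_X, hw]
      · refine (natDegree_C_mul_le _ _).trans ((natDegree_sub_le _ _).trans (max_le
          ((natDegree_sub_le _ _).trans (by simp)) ((natDegree_C_mul_le _ _).trans natDegree_X_le)))
      · exact natDegree_X_le
      · intro φ h1 h2 h3
        refine ⟨?_, h1⟩
        simp only [map_mul, map_sub, h1, h2, h3]
        ring_nf
        rw [← map_mul, inv_mul_cancel₀ hb0, map_one, one_mul]
      · simp only [map_add, map_mul, MvPolynomial.aeval_X, MvPolynomial.aeval_C, Matrix.cons_val_zero,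
          Matrix.cons_val_one, hcC]
        rw [← mul_assoc, ← map_mul C, ← map_mul C, mul_inv_cancel₀ hb0, map_one, map_one]
        ring
      · simp
  let σ : k[X][X] →+* MvPolynomial (Fin 2) k :=
    Polynomial.eval₂RingHom (Polynomial.aeval Lv).toRingHom Lw
  let τ : MvPolynomial (Fin 2) k →+* k[X][X] := (MvPolynomial.aeval ![Tx, Ty]).toRingHom
  obtain ⟨hσx, hσy⟩ := hσv σ (by simp [σ]) (by simp [σ]) (fun r => by simp [σ])
  have hστ : σ.comp τ = RingHom.id _ := by
    refine MvPolynomial.ringHom_ext (fun r => ?_) (fun i => ?_)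
    · simp [σ, τ]
    · fin_cases i <;> simp [τ, hσx, hσy]
  have hτσ : τ.comp σ = RingHom.id _ := by
    refine Polynomial.ringHom_ext (fun p => ?_) ?_
    · induction p using Polynomial.induction_on' with
      | add p q hp hq => simp only [map_add, hp, hq]
      | monomial n r =>
        rw [← C_mul_X_pow_eq_monomial]
        simp only [RingHom.comp_apply, RingHom.id_apply, map_mul, map_pow]
        have e1 : σ (C X) = Lv := by simp [σ]
        have e2 : τ Lv = C X := hτv
        rw [e1, e2]
        congr 1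
        simp [σ, τ]
    · simpa [σ, τ] using hτw
  let e : MvPolynomial (Fin 2) k ≃+* k[X][X] := RingEquiv.ofRingHom τ σ hτσ hστ
  have hθτ : ∀ q, theta v w (τ q) = MvPolynomial.aeval ![x, y] q := by
    intro q
    induction q using MvPolynomial.induction_on with
    | C r => simp [τ, theta]
    | add p q hp hq => simp only [map_add, hp, hq]
    | mul_X p i hp =>
      simp only [map_mul, hp]
      congr 1
      fin_cases i <;> simp [τ, hT.1, hT.2]
  -- the equation divides `f`
  have hdiv : g ∣ τ f := by
    rw [← Polynomial.modByMonic_eq_zero_iff_dvd hgm]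
    set r := τ f %ₘ g with hr
    have hrd : r.natDegree < d ∨ r = 0 := by
      by_cases hr0 : r = 0
      · exact Or.inr hr0
      · refine Or.inl (hgd ▸ natDegree_lt_natDegree hr0 ?_)
        exact degree_modByMonic_lt _ hgm
    rcases hrd with hrd | hrd
    swap
    · exact hrd
    have h0 : theta v w r = 0 := by
      have := congrArg (theta v w) (Polynomial.modByMonic_add_div (τ f) g)
      rw [map_add, map_mul, hgθ, zero_mul, add_zero, hθτ, hfxy] at this
      exact this
    rw [theta, coe_eval₂RingHom, eval₂_eq_sum_range' _ hrd] at h0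
    have h1 := hc.indep (fun b => r.coeff b) h0
    ext b : 1
    rw [coeff_zero]
    rcases Nat.lt_or_ge b d with hb | hb
    · exact h1 b hb
    · exact coeff_eq_zero_of_natDegree_lt (by omega)
  have hirr : Irreducible (τ f) := (MulEquiv.irreducible_iff (f := e.toMulEquiv)).2 hf
  rcases hirr.dvd_iff.1 hdiv with hu | hassoc
  · have hd0 := hc.d_pos
    rw [← hgd, natDegree_eq_zero_of_isUnit hu] at hd0
    omega
  -- upper bound
  obtain ⟨u, hu⟩ := hassoc.symm
  obtain ⟨p, hp, hpu⟩ := Polynomial.isUnit_iff.1 u.isUnit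
  obtain ⟨r, -, hrp⟩ := Polynomial.isUnit_iff.1 hp
  have hfσ : f = σ g * MvPolynomial.C r := by
    have h1 : σ (τ f) = f := RingHom.congr_fun hστ f
    rw [← h1, ← hu, map_mul, ← hpu, ← hrp]
    congr 1
    simp [σ]
  have hσg : (σ g).totalDegree ≤ d := by
    simp only [σ, coe_eval₂RingHom]
    rw [eval₂_eq_sum_range]
    refine MvPolynomial.totalDegree_finsetSum_le fun m _ => ?_
    rw [AlgHom.toRingHom_eq_coe, RingHom.coe_coe, aeval_eq_sum_range, Finset.sum_mul]
    refine MvPolynomial.totalDegree_finsetSum_le fun i _ => ?_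
    rcases eq_or_ne ((g.coeff m).coeff i) 0 with h0 | h0
    · simp [h0]
    · have him : i + m ≤ d := not_lt.1 fun hlt => h0 (hgb m i hlt)
      rw [smul_mul_assoc]
      refine (MvPolynomial.totalDegree_smul_le _ _).trans ((MvPolynomial.totalDegree_mul _ _).trans ?_)
      have e1 := (MvPolynomial.totalDegree_pow Lv i).trans (Nat.mul_le_mul_left i hLv)
      have e2 := (MvPolynomial.totalDegree_pow Lw m).trans (Nat.mul_le_mul_left m hLw)
      omega
  refine le_antisymm ?_ ?_
  · rw [hfσ]
    exact (MvPolynomial.totalDegree_mul _ _).trans (by simpa using hσg)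
  · -- lower bound
    have h1 : d ≤ (τ f).natDegree := hgd ▸ natDegree_le_of_dvd hdiv hirr.ne_zero
    refine h1.trans ?_
    conv_lhs => rw [f.as_sum, map_sum]
    refine natDegree_sum_le_of_forall_le _ _ fun m hm => ?_
    simp only [τ, AlgHom.toRingHom_eq_coe, RingHom.coe_coe, MvPolynomial.aeval_monomial]
    refine (natDegree_C_mul_le _ _).trans ?_
    refine le_trans ?_ (MvPolynomial.le_totalDegree hm)
    rw [Finsupp.prod, Finsupp.sum]
    refine (natDegree_prod_le _ _).trans (Finset.sum_le_sum fun i _ => ?_)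
    refine natDegree_pow_le.trans ?_
    fin_cases i <;> simp [Nat.mul_le_mul_left _ hTd.1, Nat.mul_le_mul_left _ hTd.2] <;>
      first | exact (Nat.mul_le_mul_left _ hTd.1).trans_eq (mul_one _)
            | exact (Nat.mul_le_mul_left _ hTd.2).trans_eq (mul_one _)

end Groth.Agent.FFEmb.Plane
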