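import Groth.Agent.FF.Linear
import Groth.Agent.FF.LinSys
import Groth.Agent.FF.MapDiv
import Groth.Agent.FF.TwoPoint
import Groth.Prelude.Def_W4bk4goldsch45

/-!
Projective maps `φ` of a function field: when is the local ring at a place the valuation ring.
-/

set_option autoImplicit false
set_option linter.unusedSectionVars false
set_option linter.style.haveILetI false

open FunFld WithZero Groth.Agent.FF

namespace Groth.Agent.FFEmb.Map

variable {k K : Type*} [Field k] [Field K] [Algebra k K] [IsAlgClosed k]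

section Core

variable (hK : IsFunctionField k K)
include hK

omit [IsAlgClosed k] in
theorem div_pow (c : K) (n : ℕ) : div k (c ^ n) = n • div k c := by
  ext P
  simp [div_apply hK.1, ord_pow]

theorem deg_sub_one (D : Divisor k K) (P : Place k K) :
    (D - Finsupp.single P 1).deg = D.deg - 1 := by
  rw [deg_sub, deg_single, deg_eq_one hK P]
  simp

/-- `L(A) + L(B) = L(A ⊔ B)` in large degree. -/
theorem L_sup (A B : Divisor k K) (h : 2 * (genus k K : ℤ) - 1 ≤ (A ⊓ B).deg) :
    L (A ⊔ B) = L A ⊔ L B := by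
  haveI := finiteDimensional_L hK A
  haveI := finiteDimensional_L hK B
  haveI := finiteDimensional_L hK (A ⊔ B)
  have hinf : L A ⊓ L B = L (A ⊓ B) := by
    ext x
    simp only [Submodule.mem_inf]
    constructor
    · rintro ⟨ha, hb⟩ P
      rw [Finsupp.inf_apply]
      rcases le_total (A P) (B P) with hle | hle
      · rw [min_eq_left hle]; exact ha P
      · rw [min_eq_right hle]; exact hb P
    · exact fun hx => ⟨L_mono inf_le_left hx, L_mono inf_le_right hx⟩
  refine (Submodule.eq_of_le_of_finrank_eq (sup_le (L_mono le_sup_left) (L_mono le_sup_right)) ?_).symm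
  have h1 := Submodule.finrank_sup_add_finrank_inf_eq (L A) (L B)
  rw [hinf] at h1
  have hdeg : (A ⊔ B).deg + (A ⊓ B).deg = A.deg + B.deg := by
    rw [← deg_add, ← deg_add]
    congr 1
    ext P
    simp only [Finsupp.add_apply, Finsupp.sup_apply, Finsupp.inf_apply]
    exact max_add_min _ _
  have hsup : (A ⊓ B).deg ≤ (A ⊔ B).deg := deg_mono inf_le_sup
  have e1 := ell_eq_of_deg_ge hK h
  have e2 := ell_eq_of_deg_ge hK (h.trans (deg_mono (inf_le_left : A ⊓ B ≤ A)))
  have e3 := ell_eq_of_deg_ge hK (h.trans (deg_mono (inf_le_right : A ⊓ B ≤ B)))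
  have e4 := ell_eq_of_deg_ge hK (h.trans hsup)
  simp only [ell] at e1 e2 e3 e4
  omega

theorem exists_exact_of_deg (D : Divisor k K) (P : Place k K) (h : 2 * (genus k K : ℤ) ≤ D.deg) :
    ∃ x : K, x ∈ L D ∧ P.1 x = exp (D P) := by
  refine (ell_lt_iff_exists hK D P).1 ?_
  have e1 := ell_eq_of_deg_ge hK (D := D) (by omega)
  have e2 := ell_eq_of_deg_ge hK (D := D - Finsupp.single P 1) (by rw [deg_sub_one hK]; omega)
  rw [deg_sub_one hK] at e2
  omega

/-- A base-point-free space `V` in `L(D)` generates `L(D + B)` over `L(B)` in large degree. -/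
theorem L_add_le {D B : Divisor k K} {V : Submodule k K} (hV : V ≤ L D)
    (hex : ∀ Q : Place k K, ∃ v ∈ V, Q.1 v = exp (D Q))
    (h : 2 * (genus k K : ℤ) - 1 ≤ B.deg - D.deg) : L (D + B) ≤ V * L B := by
  classical
  set T := V * L B
  set Tg := D + B with hTg
  let A : K → Divisor k K := fun v => B - div k v
  have hA : ∀ v : K, v ∈ V → v ≠ 0 → A v ≤ Tg ∧ L (A v) ≤ T := by
    intro v hv hv0
    refine ⟨fun Q => ?_, fun w hw => ?_⟩
    · have h2 := (mem_L_iff hK.1 hv0).1 (hV hv) Q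
      simp only [A, hTg, Finsupp.add_apply, Finsupp.sub_apply, Finsupp.zero_apply] at h2 ⊢
      omega
    · have : v * (v⁻¹ * w) ∈ T := by
        refine Submodule.mul_mem_mul hv ?_
        rw [mul_mem_L_iff hK (inv_ne_zero hv0), div_inv hK.1, ← sub_eq_add_neg]
        exact hw
      rwa [mul_inv_cancel_left₀ hv0] at this
  have hexact : ∀ Q : Place k K, ∃ v ∈ V, v ≠ 0 ∧ A v Q = Tg Q := by
    intro Q
    obtain ⟨v, hv, hvQ⟩ := hex Q
    refine ⟨v, hv, ne_zero_of_val_eq_exp Q hvQ, ?_⟩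
    simp only [A, hTg, Finsupp.sub_apply, Finsupp.add_apply, div_apply hK.1, ord_of_val_eq Q hvQ]
    omega
  obtain ⟨P⟩ := nonempty_place hK.1
  obtain ⟨v₁, hv₁, hv₁0, -⟩ := hexact P
  have hdegA : ∀ v : K, (A v).deg = B.deg := fun v => by
    simp only [A]
    rw [deg_sub, deg_div hK.1, sub_zero]
  have key : ∀ (n : ℕ) (Acc : Divisor k K), A v₁ ≤ Acc → Acc ≤ Tg → Tg.deg - Acc.deg ≤ n →
      L Acc ≤ T → L Tg ≤ T := by
    intro n
    induction n with
    | zero =>
      intro Acc h1' h2' h3' h4'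
      have : Acc = Tg := by
        by_contra hne
        obtain ⟨Q, hQ⟩ : ∃ Q, Acc Q < Tg Q := by
          by_contra! hc
          exact hne (le_antisymm h2' hc)
        have h5 : Acc + Finsupp.single Q 1 ≤ Tg := fun R => by
          rw [Finsupp.add_apply, Finsupp.single_apply]
          split_ifs with e
          · subst e; omega
          · simpa using h2' R
        have := deg_mono h5
        rw [deg_add, deg_single, deg_eq_one hK Q] at this
        simp at this h3'
        omega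
      exact this ▸ h4'
    | succ n ih =>
      intro Acc h1' h2' h3' h4'
      by_cases heq : Acc = Tg
      · exact heq ▸ h4'
      obtain ⟨Q, hQ⟩ : ∃ Q, Acc Q < Tg Q := by
        by_contra! hc
        exact heq (le_antisymm h2' hc)
      obtain ⟨v, hv, hv0, hvQ⟩ := hexact Q
      have hinf : 2 * (genus k K : ℤ) - 1 ≤ (Acc ⊓ A v).deg := by
        have hm1 : A v₁ ⊓ A v ≤ Acc ⊓ A v := inf_le_inf_right _ h1'
        have hsum : (A v₁ ⊔ A v).deg + (A v₁ ⊓ A v).deg = (A v₁).deg + (A v).deg := by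
          rw [← deg_add, ← deg_add]
          congr 1
          ext R
          simp only [Finsupp.add_apply, Finsupp.sup_apply, Finsupp.inf_apply]
          exact max_add_min _ _
        have hsle := deg_mono (sup_le (hA v₁ hv₁ hv₁0).1 (hA v hv hv0).1)
        have := deg_mono hm1
        rw [hdegA, hdegA] at hsum
        rw [hTg, deg_add] at hsle
        omega
      refine ih (Acc ⊔ A v) (h1'.trans le_sup_left) (sup_le h2' (hA v hv hv0).1) ?_ ?_
      · have h5 : Acc + Finsupp.single Q 1 ≤ Acc ⊔ A v := fun R => by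
          rw [Finsupp.add_apply, Finsupp.single_apply, Finsupp.sup_apply]
          split_ifs with e
          · subst e
            exact le_trans (by omega) (le_max_right (Acc Q) (A v Q))
          · simp
        have := deg_mono h5
        rw [deg_add, deg_single, deg_eq_one hK Q] at this
        push_cast at this h3'
        omega
      · rw [L_sup hK _ _ hinf]
        exact sup_le h4' (hA v hv hv0).2
  exact key ((Tg.deg - (A v₁).deg).toNat) (A v₁) le_rfl (hA v₁ hv₁ hv₁0).1 (Int.self_le_toNat _)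
    (hA v₁ hv₁ hv₁0).2

/-- `L((M + j) D) = W^j L(M D)` for large `M`. -/
theorem L_nsmul_le {D : Divisor k K} {W : Submodule k K} (hW : W ≤ L D)
    (hex : ∀ Q : Place k K, ∃ v ∈ W, Q.1 v = exp (D Q)) (hd : 0 ≤ D.deg) {M : ℕ}
    (hM : 2 * (genus k K : ℤ) - 1 ≤ ((M : ℤ) - 1) * D.deg) (j : ℕ) :
    L ((M + j) • D) ≤ W ^ j * L (M • D) := by
  induction j with
  | zero => simp
  | succ j ih =>
    rw [← add_assoc, succ_nsmul, add_comm _ D, pow_succ', mul_assoc]
    refine (L_add_le hK hW hex ?_).trans (Submodule.mul_le.2 fun a ha b hb => Submodule.mul_mem_mul ha (ih hb))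
    rw [← natCast_zsmul, deg_zsmul]
    push_cast
    nlinarith

/-- The core: at a place where the tangent and all other places are separated, some function in a
power of `W`, a unit at the place, multiplies `L(M E)` into a power of `W`. -/
theorem exists_conductor_core {E : Divisor k K} {W : Submodule k K} {P : Place k K}
    (h1 : (1 : K) ∈ W) (hW : W ≤ L E) (hEP : E P = 0)
    (hV : ∀ Q : Place k K, ∃ v ∈ W ⊓ L (E - Finsupp.single P 1),
      Q.1 v = exp (((E - Finsupp.single P 1 : Divisor k K) Q)))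
    (M : ℕ) (hM : 2 * (genus k K : ℤ) - 1 ≤ ((M : ℤ) - 1) * E.deg) :
    ∃ e : ℕ, ∃ r ∈ W ^ e, P.1 r = 1 ∧ ∀ b ∈ L (M • E), r * b ∈ W ^ (M + e) := by
  classical
  have hE0 : 0 ≤ E := by
    have h2 := (mem_L_iff hK.1 one_ne_zero).1 (hW h1)
    rwa [show div k (1 : K) = 0 by simpa using div_const hK.1 (1 : k), add_zero] at h2
  have hW1 : (1 : Submodule k K) ≤ W := by
    rw [Submodule.one_eq_span, Submodule.span_singleton_le_iff_mem]; exact h1
  have hint : ∀ x ∈ W, P.1 x ≤ 1 := fun x hx => by simpa [hEP] using hW hx P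
  let R := Algebra.adjoin k (W : Set K)
  have hRint : ∀ a ∈ R, P.1 a ≤ 1 := fun a ha => by
    induction ha using Algebra.adjoin_induction with
    | mem x hx => exact hint x hx
    | algebraMap r => exact val_const_le P r
    | add x y _ _ hx hy => exact (P.1.map_add _ _).trans (max_le hx hy)
    | mul x y _ _ hx hy => rw [map_mul]; exact mul_le_one' hx hy
  have hpow : ∀ a ∈ R, ∃ n, a ∈ W ^ n := fun a ha => by
    induction ha using Algebra.adjoin_induction with
    | mem x hx => exact ⟨1, by rwa [pow_one]⟩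
    | algebraMap r => exact ⟨0, by rw [pow_zero]; exact Submodule.algebraMap_mem r⟩
    | add x y _ _ hx hy =>
      obtain ⟨n, hn⟩ := hx; obtain ⟨m, hm⟩ := hy
      exact ⟨max n m, add_mem (pow_le_pow_right' hW1 (le_max_left n m) hn)
        (pow_le_pow_right' hW1 (le_max_right n m) hm)⟩
    | mul x y _ _ hx hy =>
      obtain ⟨n, hn⟩ := hx; obtain ⟨m, hm⟩ := hy
      exact ⟨n + m, by rw [pow_add]; exact Submodule.mul_mem_mul hn hm⟩
  let mP : Ideal R :=
    { carrier := {a | P.1 (a : K) < 1}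
      add_mem' := fun {a b} ha hb => lt_of_le_of_lt (P.1.map_add _ _) (max_lt ha hb)
      zero_mem' := by simp
      smul_mem' := fun c a ha => by
        show P.1 ((c : K) * a) < 1
        rw [map_mul]
        exact lt_of_le_of_lt (mul_le_of_le_one_left zero_le (hRint _ c.2)) ha }
  let N : Submodule R K := Submodule.span R (L (M • E) : Set K)
  let O : Submodule R K := Submodule.span R {(1 : K)}
  have hvm : ∀ v ∈ W ⊓ L (E - Finsupp.single P 1), ∃ a : R, a ∈ mP ∧ (a : K) = v := fun v hv => by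
    obtain ⟨-, hvP⟩ := (mem_L_sub_single zero_le_one).1 hv.2
    refine ⟨⟨v, Algebra.subset_adjoin hv.1⟩, ?_, rfl⟩
    show P.1 v < 1
    rw [hEP, zero_sub] at hvP
    exact lt_of_le_of_lt hvP (by rw [← exp_zero, exp_lt_exp]; omega)
  have hstep : L ((E - Finsupp.single P 1) + M • E) ≤ (W ⊓ L (E - Finsupp.single P 1)) * L (M • E) :=
    L_add_le hK inf_le_right hV (by
      rw [deg_sub_one hK, ← natCast_zsmul, deg_zsmul]
      nlinarith)
  have hN : N.map O.mkQ ≤ mP • N.map O.mkQ := by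
    rw [Submodule.map_span, Submodule.span_le]
    rintro _ ⟨s, hs, rfl⟩
    obtain ⟨c, hc⟩ := exists_residue hK P (show P.1 s ≤ 1 by simpa [hEP] using hs P)
    have hc' : s - algebraMap k K c ∈ (W ⊓ L (E - Finsupp.single P 1)) * L (M • E) := by
      refine hstep ?_
      rw [sub_add_eq_add_sub]
      refine (mem_L_sub_single zero_le_one).2 ⟨?_, ?_⟩
      · exact L_mono (le_add_of_nonneg_left hE0)
          (sub_mem hs (L_mono (nsmul_nonneg hE0 _) (L_zero_le_of_const c)))
      · rw [Finsupp.add_apply, Finsupp.smul_apply, hEP, smul_zero, add_zero]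
        exact (lt_exp_iff _ _).1 (by rwa [exp_zero])
    have h3 : O.mkQ s = O.mkQ (s - algebraMap k K c) := by
      rw [eq_comm, Submodule.mkQ_apply, Submodule.mkQ_apply, Submodule.Quotient.eq, sub_sub_cancel_left]
      refine neg_mem (Submodule.mem_span_singleton.2 ⟨algebraMap k R c, ?_⟩)
      show ((algebraMap k R c : R) : K) * 1 = _
      rw [mul_one]; rfl
    rw [h3, SetLike.mem_coe, ← Submodule.map_span]
    refine Submodule.mul_induction_on hc' (fun v hv w hw => ?_) (fun x y hx hy => by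
      rw [map_add]; exact add_mem hx hy)
    obtain ⟨a, ha, rfl⟩ := hvm v hv
    rw [show (a : K) * w = a • w from rfl, map_smul]
    exact Submodule.smul_mem_smul ha (Submodule.mem_map_of_mem (Submodule.subset_span hw))
  haveI := finiteDimensional_L hK (M • E)
  obtain ⟨B, hB⟩ : (L (M • E)).FG := (Submodule.fg_top _).1 (IsNoetherian.noetherian ⊤)
  have hfg : (N.map O.mkQ).FG := by
    refine Submodule.FG.map _ ⟨B, le_antisymm (Submodule.span_mono ?_) (Submodule.span_le.2 ?_)⟩
    · rw [← hB]; exact Submodule.subset_span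
    · intro x hx
      rw [← hB] at hx
      exact Submodule.span_le_restrictScalars k R _ hx
  obtain ⟨r, hr, hr0⟩ := Submodule.exists_sub_one_mem_and_smul_eq_zero_of_fg_of_le_smul mP _ hfg hN
  have hrP : P.1 (r : K) = 1 := by
    have hr' : P.1 ((r : K) - 1) < 1 := hr
    have := P.1.map_add_of_distinct_val (x := (1 : K)) (y := (r : K) - 1) (by rw [map_one]; exact hr'.ne')
    rwa [add_sub_cancel, map_one, max_eq_left hr'.le] at this
  have hb : ∀ b ∈ L (M • E), ∃ n, (r : K) * b ∈ W ^ n := by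
    intro b hb
    have h3 := hr0 _ (Submodule.mem_map_of_mem (f := O.mkQ) (Submodule.subset_span hb))
    rw [← map_smul, Submodule.mkQ_apply, Submodule.Quotient.mk_eq_zero] at h3
    obtain ⟨a, ha⟩ := Submodule.mem_span_singleton.1 h3
    have : (r : K) * b = (a : K) := by
      rw [← mul_one (a : K)]; exact ha.symm
    exact this ▸ hpow _ a.2
  choose f hf using hb
  obtain ⟨e₀, he₀⟩ := hpow _ r.2
  let n := B.attach.sup fun b => f b.1 (hB ▸ Submodule.subset_span b.2)
  refine ⟨e₀ + n, r, pow_le_pow_right' hW1 (Nat.le_add_right _ _) he₀, hrP, fun b hb => ?_⟩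
  rw [← hB] at hb
  induction hb using Submodule.span_induction with
  | mem x hx =>
    refine pow_le_pow_right' hW1 ?_ (hf x (hB ▸ Submodule.subset_span hx))
    have : f x (hB ▸ Submodule.subset_span hx) ≤ n :=
      Finset.le_sup (f := fun b : B => f b.1 (hB ▸ Submodule.subset_span b.2))
        (Finset.mem_attach B ⟨x, hx⟩)
    omega
  | zero => rw [mul_zero]; exact zero_mem _
  | add x y _ _ hx hy => rw [mul_add]; exact add_mem hx hy
  | smul c x _ hx => rw [mul_smul_comm]; exact Submodule.smul_mem _ c hx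

end Core

/-! ### Elements congruent to constants at two places. -/

/-- Functions congruent to a common constant modulo `m_P^(n+1)` and `m_Q`. -/
def cong (P Q : Place k K) (n : ℕ) : Subalgebra k K where
  carrier := {a | ∃ c : k, P.1 (a - algebraMap k K c) ≤ exp (-((n : ℤ) + 1)) ∧
    Q.1 (a - algebraMap k K c) ≤ exp (-1 : ℤ)}
  mul_mem' := by
    rintro a b ⟨c, hc, hc'⟩ ⟨d, hd, hd'⟩
    refine ⟨c * d, ?_⟩
    have hb : ∀ (R : Place k K) (m : ℤ), m ≤ 0 → R.1 (b - algebraMap k K d) ≤ exp m → R.1 b ≤ 1 := by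
      intro R m hm h
      rw [show b = algebraMap k K d + (b - algebraMap k K d) by ring]
      exact (R.1.map_add _ _).trans (max_le (val_const_le R d) (h.trans (by rwa [← exp_zero, exp_le_exp])))
    have e : a * b - algebraMap k K (c * d) =
        (a - algebraMap k K c) * b + algebraMap k K c * (b - algebraMap k K d) := by
      rw [map_mul]; ring
    rw [e]
    constructor
    · refine (P.1.map_add _ _).trans (max_le ?_ ?_) <;> rw [map_mul]
      · exact (mul_le_mul' hc (hb P _ (by omega) hd)).trans_eq (mul_one _)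
      · exact (mul_le_mul' (val_const_le P c) hd).trans_eq (one_mul _)
    · refine (Q.1.map_add _ _).trans (max_le ?_ ?_) <;> rw [map_mul]
      · exact (mul_le_mul' hc' (hb Q _ (by omega) hd')).trans_eq (mul_one _)
      · exact (mul_le_mul' (val_const_le Q c) hd').trans_eq (one_mul _)
  add_mem' := by
    rintro a b ⟨c, hc, hc'⟩ ⟨d, hd, hd'⟩
    refine ⟨c + d, ?_⟩
    rw [show a + b - algebraMap k K (c + d) = (a - algebraMap k K c) + (b - algebraMap k K d) by
      rw [map_add]; ring]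
    exact ⟨(P.1.map_add _ _).trans (max_le hc hd), (Q.1.map_add _ _).trans (max_le hc' hd')⟩
  algebraMap_mem' c := ⟨c, by simp, by simp⟩

theorem cong_const {P Q : Place k K} {n : ℕ} {a : K} (ha : a ∈ cong P Q n) (hP : P.1 a = 1) :
    ∃ c : k, c ≠ 0 ∧ P.1 (a - algebraMap k K c) ≤ exp (-((n : ℤ) + 1)) ∧
      Q.1 (a - algebraMap k K c) ≤ exp (-1 : ℤ) ∧ Q.1 a = 1 := by
  obtain ⟨c, hc, hc'⟩ := ha
  have hc0 : c ≠ 0 := by
    rintro rfl
    rw [map_zero, sub_zero, hP] at hc
    rw [← exp_zero, exp_le_exp] at hc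
    omega
  refine ⟨c, hc0, hc, hc', ?_⟩
  have hlt : Q.1 (a - algebraMap k K c) < Q.1 (algebraMap k K c) := by
    rw [val_const Q hc0]
    exact lt_of_le_of_lt hc' (by rw [← exp_zero, exp_lt_exp]; omega)
  rw [show a = algebraMap k K c + (a - algebraMap k K c) by ring, Valuation.map_add_eq_of_lt_left _ hlt,
    val_const Q hc0]

theorem cong_inv {P Q : Place k K} {n : ℕ} {a : K} (ha : a ∈ cong P Q n) (hP : P.1 a = 1) :
    a⁻¹ ∈ cong P Q n := by
  obtain ⟨c, hc0, hc, hc', hQ⟩ := cong_const ha hP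
  have ha0 : a ≠ 0 := fun e => by simp [e] at hP
  have hc0' : algebraMap k K c ≠ 0 := by simpa using hc0
  refine ⟨c⁻¹, ?_⟩
  have e : a⁻¹ - algebraMap k K c⁻¹ = -(a - algebraMap k K c) * (a⁻¹ * algebraMap k K c⁻¹) := by
    rw [map_inv₀]; field_simp; ring
  rw [e]
  constructor <;>
    simp only [map_mul, Valuation.map_neg, map_inv₀, hP, hQ, val_const _ hc0, inv_one, mul_one]
  · exact hc
  · exact hc'

section Local

variable {ι : Type*} {φ : ι → K}

/-- The local ring of `φ` at `P` consists of functions congruent to constants when the ratios are. -/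
theorem inLoc_mem_cong {P Q : Place k K} {n : ℕ} {j : ι} (hj0 : φ j ≠ 0)
    (hj : ∀ i, P.1 (φ i) ≤ P.1 (φ j)) (hr : ∀ i, φ i / φ j ∈ cong P Q n) {z : K}
    (hz : InLocRing φ P z) : z ∈ cong P Q n := by
  obtain ⟨j', hj'0, hj', u, hu, w, hw, hwP, hzw⟩ := hz
  have hval : P.1 (φ j' / φ j) = 1 := by
    rw [map_div₀, le_antisymm (hj j') (hj' j)]
    exact div_self ((P.1.ne_zero_iff).2 hj0)
  have hle : Algebra.adjoin k (Set.range fun i => φ i / φ j') ≤ cong P Q n := by
    rw [Algebra.adjoin_le_iff]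
    rintro _ ⟨i, rfl⟩
    show φ i / φ j' ∈ cong P Q n
    rw [show φ i / φ j' = φ i / φ j * (φ j' / φ j)⁻¹ by field_simp]
    exact mul_mem (hr i) (cong_inv (hr j') hval)
  have hw0 : w ≠ 0 := fun e => by simp [e] at hwP
  rw [show z = u * w⁻¹ by rw [← hzw]; field_simp]
  exact mul_mem (hle hu) (cong_inv (hle hw) hwP)

theorem sameImage_inLoc {P Q : Place k K} (h : SameImage φ P Q) {z : K} (hz : InLocRing φ P z) :
    z ∈ cong P Q 0 := by
  obtain ⟨j, hj0, hj, -, hc⟩ := h
  refine inLoc_mem_cong hj0 hj (fun i => ?_) hz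
  obtain ⟨c, hP, hQ⟩ := hc i
  refine ⟨c, ?_, ?_⟩
  · simpa using (lt_exp_iff _ 0).1 (by rwa [exp_zero])
  · simpa using (lt_exp_iff _ 0).1 (by rwa [exp_zero])

end Local

/-! ### Maps with a given divisor. -/

/-- `D` is the divisor of `φ`. -/
structure Fits {ι : Type*} (φ : ι → K) (D : Divisor k K) : Prop where
  mem : ∀ i, φ i ∈ L D
  exact' : ∀ Q : Place k K, ∃ i, Q.1 (φ i) = exp (D Q)

theorem fits_mapDiv (hK : IsFunctionField k K) {ι : Type*} [Fintype ι] [Nonempty ι] (φ : ι → K)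
    (h : (∀ i, φ i ≠ 0) ∨ ∃ i, φ i = 1) : Fits φ (mapDiv k φ) := by
  refine ⟨fun i Q => ?_, fun Q => ?_⟩
  · rw [mapDiv_apply hK.1]
    by_cases h0 : φ i = 0
    · simp [h0]
    · rw [val_le_exp_iff Q h0, neg_neg]
      exact minOrd_le φ Q i
  · obtain ⟨i, hi⟩ := exists_minOrd φ Q
    by_cases h0 : φ i = 0
    · obtain ⟨i₁, h1⟩ := h.resolve_left fun h' => h' i h0
      refine ⟨i₁, ?_⟩
      rw [mapDiv_apply hK.1, ← hi, h1, h0, map_one]
      simp [Place.ord]
    · exact ⟨i, by rw [mapDiv_apply hK.1, ← hi]; exact val_eq_exp_ord Q h0⟩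

variable {ι : Type*} {φ : ι → K} {D : Divisor k K}

/-- Separation of `P` from every place, and of tangents at `P`, by the span of `φ`. -/
def Sep (φ : ι → K) (D : Divisor k K) (P : Place k K) : Prop :=
  ∀ Q : Place k K, ∃ v ∈ Submodule.span k (Set.range φ) ⊓ L (D - Finsupp.single P 1),
    Q.1 v = exp (((D - Finsupp.single P 1 : Divisor k K) Q))

theorem Fits.span_le (hF : Fits φ D) : Submodule.span k (Set.range φ) ≤ L D :=
  Submodule.span_le.2 (by rintro _ ⟨i, rfl⟩; exact hF.mem i)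

theorem Fits.span_exact (hF : Fits φ D) (Q : Place k K) :
    ∃ v ∈ Submodule.span k (Set.range φ), Q.1 v = exp (D Q) :=
  let ⟨i, hi⟩ := hF.exact' Q; ⟨φ i, Submodule.subset_span ⟨i, rfl⟩, hi⟩

theorem Fits.exists_least (hF : Fits φ D) (Q : Place k K) :
    ∃ j, φ j ≠ 0 ∧ (∀ i, Q.1 (φ i) ≤ Q.1 (φ j)) ∧ Q.1 (φ j) = exp (D Q) := by
  obtain ⟨j, hj⟩ := hF.exact' Q
  exact ⟨j, ne_zero_of_val_eq_exp Q hj, fun i => hj ▸ hF.mem i Q, hj⟩

theorem Fits.val_least (hF : Fits φ D) {Q : Place k K} {j : ι} (hj : ∀ i, Q.1 (φ i) ≤ Q.1 (φ j)) :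
    Q.1 (φ j) = exp (D Q) :=
  let ⟨i, hi⟩ := hF.exact' Q; le_antisymm (hF.mem j Q) (hi ▸ hj i)

variable (hK : IsFunctionField k K)
include hK

theorem Fits.deg_nonneg [Nonempty ι] (hF : Fits φ D) : 0 ≤ D.deg := by
  obtain ⟨P⟩ := nonempty_place hK.1
  obtain ⟨j, hj0, -, -⟩ := hF.exists_least P
  have h1 := Groth.Agent.FF.deg_nonneg ((mem_L_iff hK.1 hj0).1 (hF.mem j))
  rwa [deg_add, deg_div hK.1, add_zero] at h1

theorem Sep.deg_pos {P : Place k K} (h : Sep φ D P) : 1 ≤ D.deg := by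
  obtain ⟨v, hv, hvP⟩ := h P
  have h1 := Groth.Agent.FF.deg_nonneg ((mem_L_iff hK.1 (ne_zero_of_val_eq_exp P hvP)).1 hv.2)
  rw [deg_add, deg_div hK.1, deg_sub_one hK] at h1
  omega

theorem pow_le_L (hF : Fits φ D) (n : ℕ) : Submodule.span k (Set.range φ) ^ n ≤ L (n • D) := by
  induction n with
  | zero => rw [pow_zero, zero_nsmul, L_zero hK]
  | succ n ih =>
    rw [pow_succ, Submodule.mul_le]
    intro a ha b hb Q
    rw [map_mul, succ_nsmul, Finsupp.add_apply, exp_add]
    exact mul_le_mul' (ih ha Q) (hF.span_le hb Q)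

omit hK in
theorem div_pow_mem_adjoin {c x : K} {n : ℕ} (hx : x ∈ Submodule.span k (Set.range φ) ^ n) :
    x / c ^ n ∈ Algebra.adjoin k (Set.range fun i => φ i / c) := by
  induction n generalizing x with
  | zero =>
    rw [pow_zero] at hx ⊢
    obtain ⟨a, rfl⟩ := Submodule.mem_one.1 hx
    simp
  | succ n ih =>
    rw [pow_succ] at hx ⊢
    refine Submodule.mul_induction_on hx (fun a ha b hb => ?_) (fun a b ha hb => by
      rw [add_div]; exact add_mem ha hb)
    rw [show a * b / (c ^ n * c) = a / c ^ n * (b / c) by ring]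
    refine mul_mem (ih ha) ?_
    induction hb using Submodule.span_induction with
    | mem y hy => obtain ⟨i, rfl⟩ := hy; exact Algebra.subset_adjoin ⟨i, rfl⟩
    | zero => simp
    | add y z _ _ hy hz => rw [add_div]; exact add_mem hy hz
    | smul a y _ hy => rw [smul_div_assoc]; exact Subalgebra.smul_mem _ hy a

omit hK in
theorem inLoc_of_pow (hF : Fits φ D) {P : Place k K} {z a : K} {n : ℕ}
    (ha : a ∈ Submodule.span k (Set.range φ) ^ n) (haP : P.1 a = exp ((n • D) P))
    (hza : z * a ∈ Submodule.span k (Set.range φ) ^ n) : InLocRing φ P z := by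
  obtain ⟨j, hj0, hj, hjP⟩ := hF.exists_least P
  refine ⟨j, hj0, hj, _, div_pow_mem_adjoin hza, _, div_pow_mem_adjoin ha, ?_, by ring⟩
  rw [map_div₀, map_pow, hjP, haP, ← exp_nsmul, ← exp_sub, ← exp_zero, exp_inj,
    Finsupp.smul_apply, sub_self]

theorem exists_conductor [Nonempty ι] (hF : Fits φ D) {P : Place k K} (h : Sep φ D P) (M : ℕ)
    (hM : 2 * (genus k K : ℤ) - 1 ≤ ((M : ℤ) - 1) * D.deg) :
    ∃ e : ℕ, ∃ a ∈ Submodule.span k (Set.range φ) ^ e, P.1 a = exp ((e • D) P) ∧
      ∀ b ∈ L (M • D), a * b ∈ Submodule.span k (Set.range φ) ^ (M + e) := by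
  obtain ⟨j, hj0, hj, hjP⟩ := hF.exists_least P
  set c := φ j with hc
  set W := Submodule.span k (Set.range φ) with hWdef
  let W' := Submodule.span k {c⁻¹} * W
  let E := D + div k c
  have hshift : ∀ (n : ℕ) (x : K), x ∈ W' ^ n → c ^ n * x ∈ W ^ n := by
    intro n x hx
    rw [mul_pow, Submodule.span_pow, Set.singleton_pow] at hx
    obtain ⟨y, hy, rfl⟩ := Submodule.mem_span_singleton_mul.1 hx
    rwa [← mul_assoc, ← mul_pow, mul_inv_cancel₀ hj0, one_pow, one_mul]
  have hW' : ∀ v ∈ W, c⁻¹ * v ∈ W' := fun v hv =>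
    Submodule.mem_span_singleton_mul.2 ⟨v, hv, rfl⟩
  have hLE : ∀ (F : Divisor k K) (v : K), v ∈ L F → c⁻¹ * v ∈ L (F + div k c) := fun F v hv => by
    rw [mul_mem_L_iff hK (inv_ne_zero hj0), div_inv hK.1, add_neg_cancel_right]
    exact hv
  have hEP : E P = 0 := by
    simp only [E, Finsupp.add_apply, div_apply hK.1, ord_of_val_eq P hjP]
    ring
  have hdeg : E.deg = D.deg := by simp only [E]; rw [deg_add, deg_div hK.1, add_zero]
  have h1 : (1 : K) ∈ W' := by
    rw [← inv_mul_cancel₀ hj0]; exact hW' _ (Submodule.subset_span ⟨j, rfl⟩)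
  have hWE : W' ≤ L E := by
    intro x hx
    obtain ⟨v, hv, rfl⟩ := Submodule.mem_span_singleton_mul.1 hx
    exact hLE D v (hF.span_le hv)
  have hV : ∀ Q : Place k K, ∃ v ∈ W' ⊓ L (E - Finsupp.single P 1),
      Q.1 v = exp (((E - Finsupp.single P 1 : Divisor k K) Q)) := fun Q => by
    obtain ⟨v, hv, hvQ⟩ := h Q
    have e : E - Finsupp.single P 1 = (D - Finsupp.single P 1) + div k c := by simp only [E]; abel
    refine ⟨c⁻¹ * v, ⟨hW' v hv.1, e ▸ hLE _ v hv.2⟩, ?_⟩
    rw [map_mul, map_inv₀, hvQ, val_eq_exp_ord Q hj0, ← exp_neg, ← exp_add, exp_inj, e,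
      Finsupp.add_apply, div_apply hK.1]
    ring
  obtain ⟨e, r, hr, hrP, hrb⟩ := exists_conductor_core hK h1 hWE hEP hV M (hdeg ▸ hM)
  refine ⟨e, c ^ e * r, hshift e r hr, ?_, fun b hb => ?_⟩
  · rw [map_mul, hrP, mul_one, map_pow, hjP, ← exp_nsmul, exp_inj, Finsupp.smul_apply]
  · have h2 : (c ^ M)⁻¹ * b ∈ L (M • E) := by
      have h3 : M • E = M • D + div k (c ^ M) := by rw [div_pow hK, nsmul_add]
      rw [h3, mul_mem_L_iff hK (inv_ne_zero (pow_ne_zero _ hj0)), div_inv hK.1, add_neg_cancel_right]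
      exact hb
    have h4 := hshift _ _ (hrb _ h2)
    rwa [show c ^ (M + e) * (r * ((c ^ M)⁻¹ * b)) = c ^ e * r * b by
      rw [pow_add]; field_simp] at h4

theorem isNonsingularAt_of_conductor (hF : Fits φ D) (hd : 1 ≤ D.deg) {P : Place k K} {M e : ℕ}
    (hM : 2 * (genus k K : ℤ) - 1 ≤ ((M : ℤ) - 1) * D.deg) {a : K}
    (ha : a ∈ Submodule.span k (Set.range φ) ^ e) (haP : P.1 a = exp ((e • D) P))
    (hab : ∀ b ∈ L (M • D), a * b ∈ Submodule.span k (Set.range φ) ^ (M + e)) :
    IsNonsingularAt φ P := by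
  intro z hz
  let F : Divisor k K := (-(div k z)) ⊔ 0
  obtain ⟨j, hj⟩ : ∃ j : ℕ, 2 * (genus k K : ℤ) ≤ ((M + j) • D - F).deg := by
    refine ⟨(2 * (genus k K : ℤ) + F.deg).toNat, ?_⟩
    rw [deg_sub, ← natCast_zsmul, deg_zsmul]
    have := Int.self_le_toNat (2 * (genus k K : ℤ) + F.deg)
    push_cast
    nlinarith
  obtain ⟨s, hs, hsP⟩ := exists_exact_of_deg hK _ P hj
  have hFP : F P = 0 := by
    simp only [F, Finsupp.sup_apply, Finsupp.neg_apply, div_apply hK.1, Finsupp.zero_apply]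
    have := (val_le_one_iff P z).1 hz
    exact max_eq_right (by omega)
  rw [Finsupp.sub_apply, hFP, sub_zero] at hsP
  have hs' : s ∈ L ((M + j) • D) := L_mono (sub_le_self _ le_sup_right) hs
  have hzs : z * s ∈ L ((M + j) • D) := by
    rcases eq_or_ne z 0 with hz0 | hz0
    · rw [hz0, zero_mul]; exact zero_mem _
    rw [mul_mem_L_iff hK hz0]
    refine L_mono (fun Q => ?_) hs
    simp only [F, Finsupp.sub_apply, Finsupp.add_apply, Finsupp.sup_apply, Finsupp.neg_apply,
      Finsupp.zero_apply]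
    have := le_max_left (-(div k z Q)) (0 : ℤ)
    omega
  have hclear : ∀ x ∈ L ((M + j) • D), a * x ∈ Submodule.span k (Set.range φ) ^ (j + (M + e)) := by
    intro x hx
    refine Submodule.mul_induction_on (L_nsmul_le hK hF.span_le hF.span_exact (by omega) hM j hx)
      (fun u hu b hb => ?_) (fun x y hx hy => by rw [mul_add]; exact add_mem hx hy)
    rw [pow_add, show a * (u * b) = u * (a * b) by ring]
    exact Submodule.mul_mem_mul hu (hab b hb)
  refine inLoc_of_pow hF (hclear s hs') ?_ ?_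
  · rw [map_mul, haP, hsP, ← exp_add, exp_inj]
    simp only [Finsupp.smul_apply, nsmul_eq_mul]
    push_cast
    ring
  · rw [show z * (a * s) = a * (z * s) by ring]
    exact hclear _ hzs

theorem isNonsingularAt_of_sep [Nonempty ι] (hF : Fits φ D) {P : Place k K} (h : Sep φ D P) :
    IsNonsingularAt φ P := by
  have hd := h.deg_pos hK
  have hM : 2 * (genus k K : ℤ) - 1 ≤ (((2 * genus k K + 1 : ℕ) : ℤ) - 1) * D.deg := by
    push_cast; nlinarith
  obtain ⟨e, a, ha, haP, hab⟩ := exists_conductor hK hF h _ hM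
  exact isNonsingularAt_of_conductor hK hF hd hM ha haP hab

/-- If `P` and `Q` are not separated, all ratios are congruent to constants. -/
theorem cong_of_not_exact (hF : Fits φ D) {P Q : Place k K}
    (h : ¬ ∃ v ∈ Submodule.span k (Set.range φ) ⊓ L (D - Finsupp.single P 1),
      Q.1 v = exp (((D - Finsupp.single P 1 : Divisor k K) Q)))
    {j : ι} (hj : ∀ i, P.1 (φ i) ≤ P.1 (φ j)) :
    (Q = P → ∀ i, φ i / φ j ∈ cong P P 1) ∧
    (Q ≠ P → (∀ i, φ i / φ j ∈ cong P Q 0) ∧ (∀ i, Q.1 (φ i) ≤ Q.1 (φ j)) ∧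
      SameImage φ P Q) := by
  have hjP := hF.val_least hj
  have hj0 := ne_zero_of_val_eq_exp P hjP
  have key : ∀ i, ∃ c : k, P.1 (φ i / φ j - algebraMap k K c) ≤ exp (-1 : ℤ) ∧
      Q.1 (φ i - c • φ j) ≤ exp (((D - Finsupp.single P 1 : Divisor k K) Q) - 1) := by
    intro i
    obtain ⟨c, hc⟩ := exists_residue hK P (t := φ i / φ j) (by
      rw [map_div₀, hjP]
      exact div_le_one_of_le₀ (hF.mem i P) zero_le)
    refine ⟨c, by simpa using (lt_exp_iff _ 0).1 (by rwa [exp_zero]), ?_⟩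
    have hv : φ i - c • φ j ∈ Submodule.span k (Set.range φ) ⊓ L (D - Finsupp.single P 1) := by
      refine ⟨sub_mem (Submodule.subset_span ⟨i, rfl⟩) (Submodule.smul_mem _ _ (Submodule.subset_span ⟨j, rfl⟩)),
        (mem_L_sub_single zero_le_one).2 ⟨sub_mem (hF.mem i) (Submodule.smul_mem _ _ (hF.mem j)), ?_⟩⟩
      rw [show φ i - c • φ j = φ j * (φ i / φ j - algebraMap k K c) by
        rw [Algebra.smul_def]; field_simp, map_mul, hjP, sub_eq_add_neg (D P), exp_add]
      exact mul_le_mul' le_rfl (by simpa using (lt_exp_iff _ 0).1 (by rwa [exp_zero]))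
    exact (lt_exp_iff _ _).1 (lt_of_le_of_ne (hv.2 Q) fun e => h ⟨_, hv, e⟩)
  constructor
  · rintro rfl i
    obtain ⟨c, hc, hcQ⟩ := key i
    refine ⟨c, ?_, hc⟩
    rw [Finsupp.sub_apply, Finsupp.single_eq_same] at hcQ
    rw [show φ i / φ j - algebraMap k K c = (φ i - c • φ j) * (φ j)⁻¹ by
      rw [Algebra.smul_def]; field_simp, map_mul, map_inv₀, hjP, ← exp_neg]
    refine (mul_le_mul' hcQ le_rfl).trans ?_
    rw [← exp_add, exp_le_exp]
    push_cast
    omega
  · intro hQP
    have hD : ((D - Finsupp.single P 1 : Divisor k K) Q) = D Q := by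
      rw [Finsupp.sub_apply, Finsupp.single_eq_of_ne hQP, sub_zero]
    have hjQ : Q.1 (φ j) = exp (D Q) := by
      obtain ⟨i, hi⟩ := hF.exact' Q
      obtain ⟨c, -, hcQ⟩ := key i
      rw [hD] at hcQ
      refine le_antisymm (hF.mem j Q) (not_lt.1 fun hlt => ?_)
      have : Q.1 (φ i) < exp (D Q) := by
        rw [show φ i = (φ i - c • φ j) + c • φ j by abel]
        exact lt_of_le_of_lt (Q.1.map_add _ _)
          (max_lt (lt_of_le_of_lt hcQ (exp_lt_exp.2 (by omega)))
            (lt_of_le_of_lt (val_smul_le Q c _) hlt))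
      exact this.ne hi
    have hjle : ∀ i, Q.1 (φ i) ≤ Q.1 (φ j) := fun i => hjQ ▸ hF.mem i Q
    have hcong : ∀ i, φ i / φ j ∈ cong P Q 0 := fun i => by
      obtain ⟨c, hc, hcQ⟩ := key i
      refine ⟨c, by simpa using hc, ?_⟩
      rw [hD] at hcQ
      rw [show φ i / φ j - algebraMap k K c = (φ i - c • φ j) * (φ j)⁻¹ by
        rw [Algebra.smul_def]; field_simp, map_mul, map_inv₀, hjQ, ← exp_neg]
      refine (mul_le_mul' hcQ le_rfl).trans ?_
      rw [← exp_add, exp_le_exp]
      omega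
    refine ⟨hcong, hjle, j, hj0, hj, hjle, fun i => ?_⟩
    obtain ⟨c, h1, h2⟩ := hcong i
    exact ⟨c, lt_of_le_of_lt h1 (by rw [← exp_zero, exp_lt_exp]; omega),
      lt_of_le_of_lt h2 (by rw [← exp_zero, exp_lt_exp]; omega)⟩

omit hK in
theorem not_cong_uniformizer {P : Place k K} {t : K} (ht : P.1 t = exp (-1 : ℤ)) :
    t ∉ cong P P 1 := by
  rintro ⟨c, hc, -⟩
  rcases eq_or_ne c 0 with rfl | hc0
  · rw [map_zero, sub_zero, ht, exp_le_exp] at hc
    omega
  · rw [Valuation.map_sub_eq_of_lt_right _ (by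
      rw [val_const P hc0, ht, ← exp_zero, exp_lt_exp]; omega), val_const P hc0, ← exp_zero,
      exp_le_exp] at hc
    omega

omit hK in
theorem not_cong_pole {P Q : Place k K} {z : K} (hQ : 1 < Q.1 z) : z ∉ cong P Q 0 := by
  rintro ⟨c, -, hc⟩
  rw [Valuation.map_sub_eq_of_lt_left _ ((val_const_le Q c).trans_lt hQ)] at hc
  exact absurd (hQ.trans_le hc) (by rw [← exp_zero, not_lt, exp_le_exp]; omega)

theorem sep_of_unique (hF : Fits φ D) {P : Place k K}
    (huniq : ∀ Q : Place k K, SameImage φ P Q → Q = P)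
    (ht : ∃ t : K, InLocRing φ P t ∧ P.1 t = exp (-1 : ℤ)) : Sep φ D P := by
  intro Q
  by_contra hne
  obtain ⟨j, hj0, hj, -⟩ := hF.exists_least P
  obtain ⟨hP, hQ⟩ := cong_of_not_exact hK hF hne hj
  by_cases e : Q = P
  · obtain ⟨t, htloc, htP⟩ := ht
    exact not_cong_uniformizer htP (inLoc_mem_cong hj0 hj (hP e) htloc)
  · exact e (huniq Q (hQ e).2.2)

omit hK in
theorem eq_of_sameImage {P Q : Place k K} (h : IsNonsingularAt φ P) (hs : SameImage φ P Q) :
    Q = P := by
  by_contra e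
  obtain ⟨z, hzP, hzQ⟩ := exists_sep_pair (Ne.symm e)
  exact not_cong_pole hzQ (sameImage_inLoc hs (h z hzP.le))

omit hK in
theorem exists_uniformizer_inLoc {P : Place k K} (h : IsNonsingularAt φ P) :
    ∃ t : K, InLocRing φ P t ∧ P.1 t = exp (-1 : ℤ) := by
  obtain ⟨t, ht⟩ := exists_uniformizer P
  exact ⟨t, h t (by rw [ht, ← exp_zero, exp_le_exp]; omega), ht⟩

theorem sep_of_isNonsingularAt (hF : Fits φ D) {P : Place k K} (h : IsNonsingularAt φ P) :
    Sep φ D P :=
  sep_of_unique hK hF (fun _ hs => eq_of_sameImage h hs) (exists_uniformizer_inLoc h)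

theorem isNonsingularAt_iff_sep [Nonempty ι] (hF : Fits φ D) (P : Place k K) :
    IsNonsingularAt φ P ↔ Sep φ D P :=
  ⟨sep_of_isNonsingularAt hK hF, isNonsingularAt_of_sep hK hF⟩

/-- Finitely many singular places of a birational map. -/
theorem finite_singular [Nonempty ι] (hF : Fits φ D) (hd : 1 ≤ D.deg) {j : ι} (hj0 : φ j ≠ 0)
    (hbir : IntermediateField.adjoin k (Set.range fun i => φ i / φ j) = ⊤) :
    {P : Place k K | ¬ IsNonsingularAt φ P}.Finite := by
  classical
  set W := Submodule.span k (Set.range φ) with hW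
  have hjW : φ j ∈ W := Submodule.subset_span ⟨j, rfl⟩
  let M := 2 * genus k K + 1
  have hM : 2 * (genus k K : ℤ) - 1 ≤ ((M : ℤ) - 1) * D.deg := by
    simp only [M]; push_cast; nlinarith
  have hadj : ∀ x ∈ Algebra.adjoin k (Set.range fun i => φ i / φ j), ∃ n : ℕ, x * φ j ^ n ∈ W ^ n := by
    intro x hx
    induction hx using Algebra.adjoin_induction with
    | mem x hx =>
      obtain ⟨i, rfl⟩ := hx
      exact ⟨1, by rw [pow_one, pow_one, div_mul_cancel₀ _ hj0]; exact Submodule.subset_span ⟨i, rfl⟩⟩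
    | algebraMap r => exact ⟨0, by rw [pow_zero, pow_zero, mul_one]; exact Submodule.algebraMap_mem r⟩
    | add x y _ _ hx hy =>
      obtain ⟨n, hn⟩ := hx; obtain ⟨m, hm⟩ := hy
      refine ⟨n + m, ?_⟩
      rw [add_mul]
      refine add_mem ?_ ?_
      · rw [pow_add, pow_add, ← mul_assoc]
        exact Submodule.mul_mem_mul hn (Submodule.pow_mem_pow _ hjW m)
      · rw [pow_add, pow_add, mul_comm (φ j ^ n), ← mul_assoc, mul_comm (W ^ n)]
        exact Submodule.mul_mem_mul hm (Submodule.pow_mem_pow _ hjW n)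
    | mul x y _ _ hx hy =>
      obtain ⟨n, hn⟩ := hx; obtain ⟨m, hm⟩ := hy
      refine ⟨n + m, ?_⟩
      rw [pow_add, pow_add, show x * y * (φ j ^ n * φ j ^ m) = (x * φ j ^ n) * (y * φ j ^ m) by ring]
      exact Submodule.mul_mem_mul hn hm
  have hone : ∀ b : K, ∃ e : ℕ, ∃ a ∈ W ^ e, a ≠ 0 ∧ a * b ∈ W ^ (M + e) := by
    intro b
    have hb : b / φ j ^ M ∈ IntermediateField.adjoin k (Set.range fun i => φ i / φ j) := by
      rw [hbir]; trivial
    obtain ⟨r, hr, s, hs, hrs⟩ := IntermediateField.mem_adjoin_iff_div.1 hb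
    rcases eq_or_ne s 0 with hs0 | hs0
    · rw [hs0, div_zero, div_eq_zero_iff] at hrs
      refine ⟨0, 1, by rw [pow_zero]; exact Submodule.one_le.1 le_rfl, one_ne_zero, ?_⟩
      rw [hrs.resolve_right (pow_ne_zero _ hj0), mul_zero]
      exact zero_mem _
    obtain ⟨n, hn⟩ := hadj r hr
    obtain ⟨m, hm⟩ := hadj s hs
    refine ⟨m + n, s * φ j ^ (m + n), ?_, mul_ne_zero hs0 (pow_ne_zero _ hj0), ?_⟩
    · rw [pow_add, pow_add, ← mul_assoc]
      exact Submodule.mul_mem_mul hm (Submodule.pow_mem_pow _ hjW n)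
    · have e : s * φ j ^ (m + n) * b = φ j ^ M * φ j ^ m * (r * φ j ^ n) := by
        rw [eq_div_iff hs0] at hrs
        rw [← hrs, pow_add]
        field_simp
      rw [e, show M + (m + n) = (M + m) + n by ring, pow_add W (M + m) n, ← pow_add (φ j) M m]
      exact Submodule.mul_mem_mul (Submodule.pow_mem_pow _ hjW _) hn
  haveI := finiteDimensional_L hK (M • D)
  obtain ⟨B, hB⟩ : (L (M • D)).FG := (Submodule.fg_top _).1 (IsNoetherian.noetherian ⊤)
  have hall : ∀ B : Finset K, ∃ e : ℕ, ∃ a ∈ W ^ e, a ≠ 0 ∧ ∀ b ∈ B, a * b ∈ W ^ (M + e) := by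
    intro B
    induction B using Finset.induction_on with
    | empty => exact ⟨0, 1, by rw [pow_zero]; exact Submodule.one_le.1 le_rfl, one_ne_zero, by simp⟩
    | @insert b B _ ih =>
      obtain ⟨e, a, ha, ha0, hab⟩ := ih
      obtain ⟨e', a', ha', ha'0, hab'⟩ := hone b
      refine ⟨e + e', a * a', by rw [pow_add]; exact Submodule.mul_mem_mul ha ha', mul_ne_zero ha0 ha'0,
        fun x hx => ?_⟩
      rcases Finset.mem_insert.1 hx with rfl | hx
      · rw [mul_assoc, show M + (e + e') = e + (M + e') by ring, pow_add W e]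
        exact Submodule.mul_mem_mul ha hab'
      · rw [show a * a' * x = a * x * a' by ring, ← add_assoc, pow_add W (M + e)]
        exact Submodule.mul_mem_mul (hab x hx) ha'
  obtain ⟨e, a, ha, ha0, hab⟩ := hall B
  refine ((e • D + div k a).support.finite_toSet).subset fun P hP => ?_
  refine Finset.mem_coe.2 (Finsupp.mem_support_iff.2 fun h0 => hP ?_)
  refine isNonsingularAt_of_conductor hK hF hd hM ha ?_ fun b hb => ?_
  · rw [val_eq_exp_ord P ha0, exp_inj]
    simp only [Finsupp.add_apply, div_apply hK.1] at h0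
    omega
  · rw [← hB] at hb
    induction hb using Submodule.span_induction with
    | mem x hx => exact hab x hx
    | zero => rw [mul_zero]; exact zero_mem _
    | add x y _ _ hx hy => rw [mul_add]; exact add_mem hx hy
    | smul c x _ hx => rw [mul_smul_comm]; exact Submodule.smul_mem _ c hx

/-- Projective normality in large degree characterises nonsingular maps. -/
theorem exists_L_le_pow [Nonempty ι] (hF : Fits φ D) (h : ∀ P : Place k K, IsNonsingularAt φ P) :
    ∃ n₀ : ℕ, ∀ n, n₀ ≤ n → L (n • D) ≤ Submodule.span k (Set.range φ) ^ n := by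
  classical
  obtain ⟨P₀⟩ := nonempty_place hK.1
  have hd := (sep_of_isNonsingularAt hK hF (h P₀)).deg_pos hK
  set W := Submodule.span k (Set.range φ) with hW
  let M := 2 * genus k K + 1
  have hM : 2 * (genus k K : ℤ) - 1 ≤ ((M : ℤ) - 1) * D.deg := by
    simp only [M]; push_cast; nlinarith
  let I : ℕ → Submodule k K := fun e =>
    { carrier := {a | a ∈ W ^ e ∧ ∀ b ∈ L (M • D), a * b ∈ W ^ (M + e)}
      add_mem' := fun {a a'} ha ha' => ⟨add_mem ha.1 ha'.1, fun b hb => by
        rw [add_mul]; exact add_mem (ha.2 b hb) (ha'.2 b hb)⟩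
      zero_mem' := ⟨zero_mem _, fun b _ => by rw [zero_mul]; exact zero_mem _⟩
      smul_mem' := fun c a ha => ⟨Submodule.smul_mem _ c ha.1, fun b hb => by
        rw [smul_mul_assoc]; exact Submodule.smul_mem _ c (ha.2 b hb)⟩ }
  have hmono : ∀ (Q : Place k K) (e d : ℕ), (∃ a ∈ I e, Q.1 a = exp ((e • D) Q)) →
      ∃ a ∈ I (e + d), Q.1 a = exp (((e + d) • D) Q) := by
    intro Q e d he
    induction d with
    | zero => exact he
    | succ d ih =>
      obtain ⟨a, ha, haQ⟩ := ih
      obtain ⟨v, hv, hvQ⟩ := hF.span_exact Q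
      refine ⟨a * v, ⟨?_, fun b hb => ?_⟩, ?_⟩
      · rw [← add_assoc, pow_succ]; exact Submodule.mul_mem_mul ha.1 hv
      · rw [show a * v * b = a * b * v by ring, ← add_assoc, ← add_assoc, pow_succ, add_assoc]
        exact Submodule.mul_mem_mul (ha.2 b hb) hv
      · rw [map_mul, haQ, hvQ, ← exp_add, exp_inj, ← add_assoc, succ_nsmul _ (e + d),
          Finsupp.add_apply]
  have hex : ∀ Q : Place k K, ∃ e : ℕ, ∃ a ∈ I e, Q.1 a = exp ((e • D) Q) := fun Q => by
    obtain ⟨e, a, ha, haP, hab⟩ := exists_conductor hK hF (sep_of_isNonsingularAt hK hF (h Q)) M hM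
    exact ⟨e, a, ⟨ha, hab⟩, haP⟩
  choose eQ heQ using hex
  obtain ⟨e₁, a, ha, haP⟩ : ∃ e : ℕ, ∃ a ∈ I e, P₀.1 a = exp ((e • D) P₀) := ⟨_, heQ P₀⟩
  have ha0 := ne_zero_of_val_eq_exp P₀ haP
  let S := (e₁ • D + div k a).support
  let e₀ := e₁ + S.sup eQ
  have hI : ∀ Q : Place k K, ∃ x ∈ I e₀, Q.1 x = exp ((e₀ • D) Q) := by
    intro Q
    by_cases hQ : Q ∈ S
    · have hle : eQ Q ≤ e₀ := (Finset.le_sup hQ).trans (Nat.le_add_left _ _)
      obtain ⟨d, hd'⟩ := Nat.exists_eq_add_of_le hle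
      rw [hd']
      exact hmono Q _ d (heQ Q)
    · refine hmono Q e₁ _ ⟨a, ha, ?_⟩
      have h0 := Finsupp.notMem_support_iff.1 hQ
      rw [val_eq_exp_ord Q ha0, exp_inj]
      simp only [Finsupp.add_apply, div_apply hK.1] at h0
      omega
  refine ⟨e₀ + M + (e₀ + 2 * genus k K), fun n hn => ?_⟩
  obtain ⟨j, rfl⟩ : ∃ j, n = e₀ + (M + j) := ⟨n - e₀ - M, by omega⟩
  have hle : I e₀ ≤ L (e₀ • D) := fun x hx => pow_le_L hK hF _ hx.1
  intro x hx
  rw [add_nsmul] at hx
  have hx' := L_add_le hK hle hI (by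
    rw [← natCast_zsmul, deg_zsmul, ← natCast_zsmul, deg_zsmul]
    have : (e₀ : ℤ) + 2 * genus k K ≤ j := by omega
    push_cast
    nlinarith) hx
  refine Submodule.mul_induction_on hx' (fun u hu y hy => ?_) (fun _ _ h1 h2 => add_mem h1 h2)
  refine Submodule.mul_induction_on (L_nsmul_le hK hF.span_le hF.span_exact (by omega) hM j hy)
    (fun w hw b hb => ?_) (fun x y h1 h2 => by rw [mul_add]; exact add_mem h1 h2)
  rw [show u * (w * b) = (u * b) * w by ring, show e₀ + (M + j) = (M + e₀) + j by ring, pow_add]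
  exact Submodule.mul_mem_mul (hu.2 b hb) hw

theorem isNonsingularAt_of_L_le_pow (hF : Fits φ D) (hd : 1 ≤ D.deg) {n₀ : ℕ}
    (h : ∀ n, n₀ ≤ n → L (n • D) ≤ Submodule.span k (Set.range φ) ^ n) (P : Place k K) :
    IsNonsingularAt φ P := by
  refine isNonsingularAt_of_conductor hK hF hd (M := n₀ + 2 * genus k K + 1) (e := 0) (a := 1)
    (by push_cast; nlinarith) (by rw [pow_zero]; exact Submodule.one_le.1 le_rfl)
    (by simp) fun b hb => ?_
  rw [one_mul, add_zero]
  exact h _ (by omega) hb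

end Groth.Agent.FFEmb.Map
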